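import Groth.Agent.EGA43.ProperDvr.Submersive
import Groth.Agent.H8Lim.MaxPoints
import Groth.Agent.H8Lim.DescentProper
import Groth.Agent.Et18.Descent

/-!
# Flat schemes over a discrete valuation ring with connected generic fibre (EGA IV 15.7.10)
-/

set_option autoImplicit false
set_option backward.isDefEq.respectTransparency false
set_option linter.style.haveILetI false

universe u

open CategoryTheory CategoryTheory.Limits AlgebraicGeometry TopologicalSpace Opposite IsLocalRing

namespace Groth.Agent.EGA43.ProperDvr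

open Groth.Agent

theorem finite_setOf_isMaxPt (X : Scheme.{u}) [NoetherianSpace X] : {s : X | H8Lim.IsMaxPt s}.Finite := by
  refine Set.Finite.subset (genericPoints.finite NoetherianSpace.finite_irreducibleComponents) fun s hs => ?_
  refine ⟨isIrreducible_singleton.closure, fun S hS hle => ?_⟩
  have hgp := hS.closure.isGenericPoint_genericPoint isClosed_closure
  have h1 : hS.closure.genericPoint = s :=
    hs _ (hgp.specializes (subset_closure (hle (subset_closure rfl))))
  intro w hw
  rw [← specializes_iff_mem_closure, ← h1]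
  exact hgp.specializes (subset_closure hw)

/-- The complete case. -/
theorem isProper_of_flat_complete {A : Type u} [CommRing A] [IsDomain A] [IsDiscreteValuationRing A]
    [HenselianRing A (maximalIdeal A)] {X : Scheme.{u}} (q : X ⟶ Spec (CommRingCat.of A)) [Flat q]
    [IsSeparated q] [LocallyOfFiniteType q] [QuasiCompact q]
    (hη : _root_.IsPreconnected (q.base ⁻¹' {genericPoint (Spec (CommRingCat.of A))}))
    (hs : IsProper (q.fiberToSpecResidueField (closedPoint A))) (hne : ∃ x, q x = closedPoint A) :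
    IsProper q ∧ _root_.IsPreconnected (q.base ⁻¹' {closedPoint A}) := by
  let s : ↥(Spec (CommRingCat.of A)) := closedPoint A
  let η := genericPoint (Spec (CommRingCat.of A))
  have hsη : s ≠ η := fun h => (IsDiscreteValuationRing.not_a_field A)
    ((congrArg PrimeSpectrum.asIdeal h).trans (congrArg PrimeSpectrum.asIdeal (genericPoint_spec_eq A)))
  have hsc : IsClosed ({s} : Set ↥(Spec (CommRingCat.of A))) :=
    (PrimeSpectrum.isClosed_singleton_iff_isMaximal _).2 (maximalIdeal.isMaximal A)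
  haveI : IsClosedImmersion ((Spec (CommRingCat.of A)).fromSpecResidueField s) := by
    refine IsClosedImmersion.iff_isPreimmersion.2 ⟨inferInstance, ?_⟩
    rw [Scheme.range_fromSpecResidueField]
    exact hsc
  let τ := q.fiberι s
  haveI := hs
  haveI : IsProper (τ ≫ q) := by
    rw [show τ ≫ q = q.fiberToSpecResidueField s ≫ (Spec (CommRingCat.of A)).fromSpecResidueField s from
      pullback.condition]
    infer_instance
  have hτ : ∀ x, x ∈ Set.range τ ↔ x ∈ (⊤ : X.Opens) ∧ q x = closedPoint A := fun x => by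
    rw [show Set.range τ = q.base ⁻¹' {s} from q.range_fiberι s]
    exact ⟨fun h => ⟨trivial, h⟩, fun h => h.2⟩
  haveI : IsLocallyNoetherian X := LocallyOfFiniteType.isLocallyNoetherian q
  haveI : CompactSpace X := QuasiCompact.compactSpace_of_compactSpace q
  haveI : IsNoetherian X := {}
  let M := {x : X | H8Lim.IsMaxPt x}
  have hMf : M.Finite := finite_setOf_isMaxPt X
  have hMη : ∀ ξ ∈ M, q ξ = η := by
    intro ξ hξ
    obtain ⟨z, hz, hzη⟩ := Flat.generalizingMap q (genericPoint_specializes (q ξ))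
    rw [← hξ z hz]
    exact hzη
  have hgen : ∀ x, q x ≠ η → q x = s := fun x hx => (eq_closedPoint_or_generic (q x)).resolve_right hx
  -- components meeting the special fibre are proper
  let M₁ := {ξ ∈ M | ∃ x, ξ ⤳ x ∧ q x = s}
  have hM₁ : ∀ ξ ∈ M₁, ∃ (Z : Scheme.{u}) (_ : IsIntegral Z) (i : Z ⟶ X) (_ : IsClosedImmersion i),
      i (genericPoint Z) = ξ ∧ (∀ w, ξ ⤳ w → w ∈ Set.range i) ∧ IsProper (i ≫ q) := by
    rintro ξ ⟨hξ, x, hξx, hx⟩
    obtain ⟨Z, _, i, _, hi, hrange, -⟩ := exists_integral_closure ξ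
    obtain ⟨z, hz⟩ := hrange x hξx
    exact ⟨Z, inferInstance, i, inferInstance, hi, hrange,
      (isProper_of_meets q τ i ⊤ hτ ⟨z, (hτ _).2 ⟨trivial, hz ▸ hx⟩⟩).1⟩
  -- specialization to the closed fibre inside such a component
  have hlift : ∀ ξ ∈ M₁, ∀ w, ξ ⤳ w → ∃ x, w ⤳ x ∧ q x = s := by
    intro ξ hξ w hw
    obtain ⟨Z, _, i, _, -, hrange, hp⟩ := hM₁ ξ hξ
    obtain ⟨z, rfl⟩ := hrange w hw
    haveI := hp
    obtain ⟨e, hze, he⟩ := (Scheme.Hom.isClosedMap (i ≫ q)).specializingMap
      (IsLocalRing.specializes_closedPoint ((i ≫ q) z) : (i ≫ q) z ⤳ s)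
    exact ⟨i e, hze.map i.continuous, he⟩
  -- every component meets the special fibre
  have hall : M ⊆ M₁ := by
    intro ξ₀ hξ₀
    by_contra hn
    let C₁ : Set X := ⋃ ξ ∈ M₁, closure {ξ}
    let C₂ : Set X := ⋃ ξ ∈ M \ M₁, closure {ξ}
    have hC₁ : IsClosed C₁ := (hMf.subset fun _ h => h.1).isClosed_biUnion fun _ _ => isClosed_closure
    have hC₂ : IsClosed C₂ := hMf.sdiff.isClosed_biUnion fun _ _ => isClosed_closure
    obtain ⟨x₀, hx₀⟩ := hne
    obtain ⟨ξ₁, hξ₁, hξ₁x⟩ := H8Lim.exists_isMaxPt_specializes x₀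
    have hξ₁' : ξ₁ ∈ M₁ := ⟨hξ₁, x₀, hξ₁x, hx₀⟩
    obtain ⟨w, -, hw1, hw2⟩ := isPreconnected_closed_iff.1 hη C₁ C₂ hC₁ hC₂
      (fun w _ => by
        obtain ⟨ξ, hξ, hξw⟩ := H8Lim.exists_isMaxPt_specializes w
        by_cases h : ξ ∈ M₁
        · exact Or.inl (Set.mem_iUnion₂.2 ⟨ξ, h, hξw.mem_closure⟩)
        · exact Or.inr (Set.mem_iUnion₂.2 ⟨ξ, ⟨hξ, h⟩, hξw.mem_closure⟩))
      ⟨ξ₁, hMη _ hξ₁, Set.mem_iUnion₂.2 ⟨ξ₁, hξ₁', subset_closure rfl⟩⟩
      ⟨ξ₀, hMη _ hξ₀, Set.mem_iUnion₂.2 ⟨ξ₀, ⟨hξ₀, hn⟩, subset_closure rfl⟩⟩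
    obtain ⟨ξ, hξ, hξw⟩ := Set.mem_iUnion₂.1 hw1
    obtain ⟨ξ', hξ', hξ'w⟩ := Set.mem_iUnion₂.1 hw2
    obtain ⟨x, hwx, hx⟩ := hlift ξ hξ w (specializes_iff_mem_closure.2 hξw)
    exact hξ'.2 ⟨hξ'.1, x, (specializes_iff_mem_closure.2 hξ'w).trans hwx, hx⟩
  refine ⟨?_, ?_⟩
  · haveI : Finite M := hMf.to_subtype
    choose Z hZ i hi hig hir hip using fun ξ : M => hM₁ ξ.1 (hall ξ.2)
    haveI : ∀ ξ, UniversallyClosed (i ξ ≫ q) := fun ξ => (hip ξ).toUniversallyClosed
    haveI : UniversallyClosed q := H8Lim.universallyClosed_of_finite_cover q Z i fun x => by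
      obtain ⟨ξ, hξ, hξx⟩ := H8Lim.exists_isMaxPt_specializes x
      exact ⟨⟨ξ, hξ⟩, hir ⟨ξ, hξ⟩ x hξx⟩
    exact {}
  · rw [isPreconnected_closed_iff]
    intro P P' hP hP' hcov ⟨p, hps, hpP⟩ ⟨p', hps', hpP'⟩
    by_contra hne'
    have hdisj : ∀ x, q x = s → x ∈ P → x ∉ P' := fun x hx h h' => hne' ⟨x, hx, h, h'⟩
    have hside : ∀ ξ ∈ M, ∀ x x', ξ ⤳ x → q x = s → x ∈ P → ξ ⤳ x' → q x' = s → x' ∈ P' → False := by
      intro ξ hξ x x' hx hxs hxP hx' hxs' hxP'
      obtain ⟨Z, _, i, _, hig, hrange, hp⟩ := hM₁ ξ (hall hξ)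
      haveI := hp
      have hconn := (Et18.ProperClopen.isConnected_inter_closure (maximalIdeal A) (i ≫ q) (genericPoint Z)).2
      rw [genericPoint_closure, Set.inter_univ] at hconn
      have hmem : ∀ z, z ∈ (i ≫ q).base ⁻¹' PrimeSpectrum.zeroLocus (maximalIdeal A : Set A) ↔ q (i z) = s := by
        intro z
        show (maximalIdeal A : Set A) ⊆ ((q (i z) : PrimeSpectrum A).asIdeal : Set A) ↔ _
        constructor
        · exact fun h => PrimeSpectrum.ext
            ((maximalIdeal.isMaximal A).eq_of_le (PrimeSpectrum.isPrime _).ne_top h).symm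
        · intro h
          rw [h]
          exact subset_rfl
      obtain ⟨z, rfl⟩ := hrange x hx
      obtain ⟨z', rfl⟩ := hrange x' hx'
      obtain ⟨w, hw, hwP, hwP'⟩ := isPreconnected_closed_iff.1 hconn (i.base ⁻¹' P) (i.base ⁻¹' P')
        (hP.preimage i.continuous) (hP'.preimage i.continuous) (fun w hw => hcov ((hmem w).1 hw))
        ⟨z, (hmem z).2 hxs, hxP⟩ ⟨z', (hmem z').2 hxs', hxP'⟩
      exact hdisj _ ((hmem w).1 hw) hwP hwP'
    let D₁ : Set X := ⋃ ξ ∈ {ξ ∈ M | ∃ x, ξ ⤳ x ∧ q x = s ∧ x ∈ P}, closure {ξ}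
    let D₂ : Set X := ⋃ ξ ∈ {ξ ∈ M | ∃ x, ξ ⤳ x ∧ q x = s ∧ x ∈ P'}, closure {ξ}
    have hD₁ : IsClosed D₁ := (hMf.subset fun _ h => h.1).isClosed_biUnion fun _ _ => isClosed_closure
    have hD₂ : IsClosed D₂ := (hMf.subset fun _ h => h.1).isClosed_biUnion fun _ _ => isClosed_closure
    obtain ⟨ξp, hξp, hξpp⟩ := H8Lim.exists_isMaxPt_specializes p
    obtain ⟨ξp', hξp', hξpp'⟩ := H8Lim.exists_isMaxPt_specializes p'
    obtain ⟨w, -, hw1, hw2⟩ := isPreconnected_closed_iff.1 hη D₁ D₂ hD₁ hD₂
      (fun w _ => by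
        obtain ⟨ξ, hξ, hξw⟩ := H8Lim.exists_isMaxPt_specializes w
        obtain ⟨x, hwx, hx⟩ := hlift ξ (hall hξ) w hξw
        rcases hcov (show x ∈ q.base ⁻¹' {closedPoint A} from hx) with h | h
        · exact Or.inl (Set.mem_iUnion₂.2 ⟨ξ, ⟨hξ, x, hξw.trans hwx, hx, h⟩, hξw.mem_closure⟩)
        · exact Or.inr (Set.mem_iUnion₂.2 ⟨ξ, ⟨hξ, x, hξw.trans hwx, hx, h⟩, hξw.mem_closure⟩))
      ⟨ξp, hMη _ hξp, Set.mem_iUnion₂.2 ⟨ξp, ⟨hξp, p, hξpp, hps, hpP⟩, subset_closure rfl⟩⟩
      ⟨ξp', hMη _ hξp', Set.mem_iUnion₂.2 ⟨ξp', ⟨hξp', p', hξpp', hps', hpP'⟩, subset_closure rfl⟩⟩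
    obtain ⟨ξ, ⟨hξ, x, hξx, hxs, hxP⟩, hξw⟩ := Set.mem_iUnion₂.1 hw1
    obtain ⟨ξ', ⟨hξ', x', hξx', hxs', hxP'⟩, hξ'w⟩ := Set.mem_iUnion₂.1 hw2
    obtain ⟨y, hwy, hy⟩ := hlift ξ (hall hξ) w (specializes_iff_mem_closure.2 hξw)
    rcases hcov (show y ∈ q.base ⁻¹' {closedPoint A} from hy) with h | h
    · exact hside ξ' hξ' y x' ((specializes_iff_mem_closure.2 hξ'w).trans hwy) hy h hξx' hxs' hxP'
    · exact hside ξ hξ x y hξx hxs hxP ((specializes_iff_mem_closure.2 hξw).trans hwy) hy h

/-- Completion with residue field dominating a given extension. -/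
theorem connectedSpace_of_surjective {S T : Scheme.{u}} (φ : S ⟶ T) [Surjective φ] [ConnectedSpace S] :
    ConnectedSpace T :=
  φ.surjective.connectedSpace φ.continuous

theorem range_specMap_residue (C : Type u) [CommRing C] [IsLocalRing C] :
    Set.range (Spec.map (CommRingCat.ofHom (residue C))).base = {closedPoint C} := by
  ext p
  constructor
  · rintro ⟨t, rfl⟩
    refine PrimeSpectrum.ext ?_
    show Ideal.comap (residue C) (t : PrimeSpectrum (ResidueField C)).asIdeal = maximalIdeal C
    rw [((t : PrimeSpectrum (ResidueField C)).asIdeal.eq_bot_or_top).resolve_right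
      (PrimeSpectrum.isPrime _).ne_top]
    exact IsLocalRing.ker_residue
  · intro hp
    obtain ⟨t⟩ : Nonempty (PrimeSpectrum (ResidueField C)) := inferInstance
    exact ⟨t, (PrimeSpectrum.ext (by
      show Ideal.comap (residue C) t.asIdeal = maximalIdeal C
      rw [(t.asIdeal.eq_bot_or_top).resolve_right (PrimeSpectrum.isPrime _).ne_top]
      exact IsLocalRing.ker_residue)).trans (Set.mem_singleton_iff.1 hp).symm⟩

theorem surjective_specMap_field {K L : Type u} [Field K] [CommRing L] [Nontrivial L] (f : K →+* L) :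
    Surjective (Spec.map (CommRingCat.ofHom f)) := by
  obtain ⟨p⟩ : Nonempty (PrimeSpectrum L) := inferInstance
  exact ⟨fun t => ⟨p, Subsingleton.elim (α := PrimeSpectrum K) _ _⟩⟩

/-- EGA IV 15.7.10 over a discrete valuation ring. -/
theorem isProper_and_connected_of_flat_dvr {A : Type u} [CommRing A] [IsDomain A] [IsDiscreteValuationRing A]
    {X : Scheme.{u}} (q : X ⟶ Spec (CommRingCat.of A)) [Flat q]
    [IsSeparated q] [LocallyOfFiniteType q] [QuasiCompact q]
    (hη : ∀ (L : Type u) [Field L] (k : Spec (CommRingCat.of L) ⟶ Spec (CommRingCat.of A)),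
      (∀ t, k t = genericPoint (Spec (CommRingCat.of A))) → ConnectedSpace ↥(pullback q k))
    (hs : IsProper (q.fiberToSpecResidueField (closedPoint A))) (hne : ∃ x, q x = closedPoint A) :
    IsProper q ∧ ∀ (L : Type u) [Field L] (ι : ResidueField A →+* L),
      ConnectedSpace ↥(pullback q (Spec.map (CommRingCat.ofHom (ι.comp (residue A))))) := by
  have key : ∀ (L : Type u) [Field L] (ι : ResidueField A →+* L),
      IsProper q ∧ ConnectedSpace ↥(pullback q (Spec.map (CommRingCat.ofHom (ι.comp (residue A))))) := by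
    intro L _ ι
    obtain ⟨C, _, _, _, _, _, φ, ι', hφl, hφi, hφ⟩ := FiniteCrit.exists_completeDvr (ι.comp (residue A))
      (by rw [RingHom.ker_comp_of_injective _ ι.injective]; exact IsLocalRing.ker_residue)
    haveI := hφl
    let sφ : Spec (CommRingCat.of C) ⟶ Spec (CommRingCat.of A) := Spec.map (CommRingCat.ofHom φ)
    have hfl : φ.Flat := by
      letI := φ.toAlgebra
      haveI : Module.IsTorsionFree A C := Module.isTorsionFree_iff_algebraMap_injective.2 hφi
      show Module.Flat A C
      infer_instance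
    haveI : Flat sφ := (HasRingHomProperty.Spec_iff (P := @Flat)).2 hfl
    have hcl : sφ (closedPoint C) = closedPoint A := IsLocalRing.comap_closedPoint φ
    have hgn : sφ (genericPoint (Spec (CommRingCat.of C))) = genericPoint (Spec (CommRingCat.of A)) := by
      rw [genericPoint_spec_eq, genericPoint_spec_eq]
      exact PrimeSpectrum.ext ((RingHom.injective_iff_ker_eq_bot φ).1 hφi)
    haveI : Surjective sφ := ⟨fun t => by
      rcases eq_closedPoint_or_generic t with rfl | rfl
      · exact ⟨_, hcl⟩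
      · exact ⟨_, hgn⟩⟩
    let q' := pullback.snd q sφ
    let η' := genericPoint (Spec (CommRingCat.of C))
    let k := (Spec (CommRingCat.of C)).fromSpecResidueField η'
    have hk : ∀ t, (k ≫ sφ) t = genericPoint (Spec (CommRingCat.of A)) := fun t =>
      (congrArg sφ (Scheme.fromSpecResidueField_apply η' t)).trans hgn
    haveI hconn := hη ((Spec (CommRingCat.of C)).residueField η') (k ≫ sφ) hk
    have hpre : _root_.IsPreconnected (q'.base ⁻¹' {η'}) := by
      let e := (IsPullback.of_hasPullback q' k).paste_horiz (IsPullback.of_hasPullback q sφ)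
      haveI : ConnectedSpace ↥(q'.fiber η') :=
        e.isoPullback.inv.homeomorph.surjective.connectedSpace e.isoPullback.inv.continuous
      rw [← q'.range_fiberι, ← Set.image_univ]
      exact isPreconnected_univ.image _ (q'.fiberι η').continuous.continuousOn
    have hsp : IsProper (q'.fiberToSpecResidueField (closedPoint C)) := by
      refine MorphismProperty.of_isPullback (P := @IsProper)
        (isPullback_fiberToSpecResidueField_of_isPullback (IsPullback.of_hasPullback q sφ) _) ?_
      rw [hcl]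
      exact hs
    have hne' : ∃ x, q' x = closedPoint C := by
      obtain ⟨x, hx⟩ := hne
      obtain ⟨w, -, hw⟩ := Scheme.Pullback.exists_preimage_pullback (f := q) (g := sφ) x (closedPoint C)
        (hx.trans hcl.symm)
      exact ⟨w, hw⟩
    obtain ⟨hp, hc⟩ := isProper_of_flat_complete q' hpre hsp hne'
    refine ⟨?_, ?_⟩
    · haveI := Et18.descends_isProper.{u}
      exact MorphismProperty.of_isPullback_of_descendsAlong (P := @IsProper) (Q := Et18.FPQC.{u})
        (IsPullback.of_hasPullback q sφ).flip ⟨⟨inferInstance, inferInstance⟩, inferInstance⟩ hp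
    · let sres : Spec (CommRingCat.of (ResidueField C)) ⟶ Spec (CommRingCat.of C) :=
        Spec.map (CommRingCat.ofHom (residue C))
      haveI : ConnectedSpace ↥(pullback q' sres) := by
        haveI : IsClosedImmersion sres := IsClosedImmersion.spec_of_surjective _ IsLocalRing.residue_surjective
        have hr : Set.range (pullback.fst q' sres) = q'.base ⁻¹' {closedPoint C} := by
          rw [Scheme.Pullback.range_fst]
          congr 1
          exact (range_specMap_residue C)
        obtain ⟨x, hx⟩ := hne'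
        obtain ⟨w, -⟩ := hr.ge hx
        haveI : Nonempty ↥(pullback q' sres) := ⟨w⟩
        haveI : PreconnectedSpace ↥(pullback q' sres) := ⟨by
          refine (pullback.fst q' sres).isClosedEmbedding.isInducing.isPreconnected_image.1 ?_
          rw [Set.image_univ, hr]
          exact hc⟩
        exact ⟨inferInstance⟩
      let l : Spec (CommRingCat.of (ResidueField C)) ⟶ Spec (CommRingCat.of L) := Spec.map (CommRingCat.ofHom ι')
      haveI : Surjective l := surjective_specMap_field ι'
      have hl : l ≫ Spec.map (CommRingCat.ofHom (ι.comp (residue A))) = sres ≫ sφ := by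
        simp only [l, sres, sφ, ← Spec.map_comp, ← CommRingCat.ofHom_comp, hφ]
      let e := (IsPullback.of_hasPullback q' sres).paste_horiz (IsPullback.of_hasPullback q sφ)
      let m : pullback q' sres ⟶ pullback q (Spec.map (CommRingCat.ofHom (ι.comp (residue A)))) :=
        pullback.lift (pullback.fst q' sres ≫ pullback.fst q sφ) (pullback.snd q' sres ≫ l)
          (by rw [Category.assoc (pullback.snd q' sres), hl]; exact e.w)
      have hm : IsPullback m (pullback.snd q' sres)
          (pullback.snd q (Spec.map (CommRingCat.ofHom (ι.comp (residue A))))) l := by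
        refine IsPullback.of_right ?_ (pullback.lift_snd _ _ _) (IsPullback.of_hasPullback q _)
        rw [pullback.lift_fst, hl]
        exact e
      haveI : Surjective m := MorphismProperty.of_isPullback (P := @Surjective) hm.flip inferInstance
      exact connectedSpace_of_surjective m
  exact ⟨(key (ResidueField A) (RingHom.id _)).1, fun L _ ι => (key L ι).2⟩

theorem connectedSpace_pullback_of_geomConnected {X Y : Scheme.{u}} (f : X ⟶ Y) (y : Y)
    [GeometricallyConnected (f.fiberToSpecResidueField y)] {L : Type u} [Field L]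
    (k : Spec (CommRingCat.of L) ⟶ Y) (hk : k (closedPoint L) = y) : ConnectedSpace ↥(pullback f k) := by
  obtain ⟨φ, rfl⟩ := exists_factor k y hk
  let e := (IsPullback.of_hasPullback (f.fiberToSpecResidueField y) (Spec.map φ)).paste_horiz
    (IsPullback.of_hasPullback f (Y.fromSpecResidueField y))
  haveI : ConnectedSpace ↥(pullback (f.fiberToSpecResidueField y) (Spec.map φ)) :=
    GeometricallyConnected.geometrically_connectedSpace _ _ _ (IsPullback.of_hasPullback _ _)
  exact e.isoPullback.hom.homeomorph.surjective.connectedSpace e.isoPullback.hom.continuous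

/-- The closed fibre is geometrically connected. -/
theorem geomConnected_closedFibre {A : Type u} [CommRing A] [IsDomain A] [IsDiscreteValuationRing A]
    {X : Scheme.{u}} (q : X ⟶ Spec (CommRingCat.of A))
    (h : ∀ (L : Type u) [Field L] (ι : ResidueField A →+* L),
      ConnectedSpace ↥(pullback q (Spec.map (CommRingCat.ofHom (ι.comp (residue A)))))) :
    GeometricallyConnected (q.fiberToSpecResidueField (closedPoint A)) := by
  refine ⟨fun L _ b Z fst snd sq => ?_⟩
  let s : ↥(Spec (CommRingCat.of A)) := closedPoint A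
  let k : Spec (CommRingCat.of L) ⟶ Spec (CommRingCat.of A) := b ≫ (Spec (CommRingCat.of A)).fromSpecResidueField s
  obtain ⟨ψ, hψ⟩ := Spec.map_surjective k
  have hker : ∀ a ∈ maximalIdeal A, ψ.hom a = 0 := by
    intro a ha
    have h1 : k (closedPoint L) = s := Scheme.fromSpecResidueField_apply s (b (closedPoint L))
    rw [← hψ] at h1
    have h2 : Ideal.comap ψ.hom (maximalIdeal L) = maximalIdeal A := congrArg PrimeSpectrum.asIdeal h1
    rw [← h2, Ideal.mem_comap, maximalIdeal_eq_bot, Ideal.mem_bot] at ha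
    exact ha
  let ι : ResidueField A →+* L := Ideal.Quotient.lift (maximalIdeal A) ψ.hom hker
  haveI := h L ι
  have hk : Spec.map (CommRingCat.ofHom (ι.comp (residue A))) = k := by
    rw [← hψ]
    congr 1
  let e := sq.paste_horiz (IsPullback.of_hasPullback q ((Spec (CommRingCat.of A)).fromSpecResidueField s))
  haveI : ConnectedSpace ↥(pullback q k) := hk ▸ h L ι
  exact e.isoPullback.inv.homeomorph.surjective.connectedSpace e.isoPullback.inv.continuous

/-- EGA IV 15.7.10 for flat morphisms. -/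
theorem exists_isProper_of_flat {X S : Scheme.{u}} [IsLocallyNoetherian S] (f : X ⟶ S) [Flat f] [IsSeparated f]
    [LocallyOfFiniteType f] [QuasiCompact f]
    (hgen : ∀ η : S, (∀ η' : S, η' ⤳ η → η' = η) → Nonempty ↥(f.fiber η) →
      GeometricallyConnected (f.fiberToSpecResidueField η))
    (s : S) [Nonempty ↥(f.fiber s)] (hs : IsProper (f.fiberToSpecResidueField s)) :
    ∃ U : S.Opens, s ∈ U ∧ IsProper (f ∣_ U) := by
  refine exists_isProper_of_dvr f s fun ξ hξ A _ _ _ K _ _ _ g σ hσ hg hσξ => ?_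
  have hmax : ∀ η' : S, η' ⤳ f ξ → η' = f ξ := fun η' h => by
    obtain ⟨z, hz, hzη⟩ := Flat.generalizingMap f h
    rw [← hzη, hξ z hz]
  have hne' : Nonempty ↥(f.fiber (f ξ)) := ⟨f.asFiber ξ⟩
  haveI := hgen (f ξ) hmax hne'
  have hgη : g (genericPoint (Spec (CommRingCat.of A))) = f ξ := by
    rw [← hσξ, ← specMap_frac_apply A K (closedPoint K)]
    exact (congrArg (fun φ : Spec (CommRingCat.of K) ⟶ S => φ (closedPoint K)) hσ).symm
  let q := pullback.snd f g
  have hη : ∀ (L : Type u) [Field L] (k : Spec (CommRingCat.of L) ⟶ Spec (CommRingCat.of A)),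
      (∀ t, k t = genericPoint (Spec (CommRingCat.of A))) → ConnectedSpace ↥(pullback q k) := by
    intro L _ k hk
    haveI := connectedSpace_pullback_of_geomConnected f (f ξ) (k ≫ g) ((congrArg g (hk _)).trans hgη)
    let e := (IsPullback.of_hasPullback q k).paste_horiz (IsPullback.of_hasPullback f g)
    exact e.isoPullback.inv.homeomorph.surjective.connectedSpace e.isoPullback.inv.continuous
  have hsA : IsProper (q.fiberToSpecResidueField (closedPoint A)) := by
    refine MorphismProperty.of_isPullback (P := @IsProper)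
      (isPullback_fiberToSpecResidueField_of_isPullback (IsPullback.of_hasPullback f g) _) ?_
    rw [hg]
    exact hs
  have hne : ∃ x, q x = closedPoint A := by
    obtain ⟨t⟩ := ‹Nonempty ↥(f.fiber s)›
    obtain ⟨w, -, hw⟩ := Scheme.Pullback.exists_preimage_pullback (f := f) (g := g) (f.fiberι s t) (closedPoint A)
      (((f.range_fiberι s).le ⟨t, rfl⟩).trans hg.symm)
    exact ⟨w, hw⟩
  haveI hp := (isProper_and_connected_of_flat_dvr q hη hsA hne).1
  let Sq : ValuativeCommSq q := ValuativeCommSq.mk A K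
    (pullback.lift σ (Spec.map (CommRingCat.ofHom (algebraMap A K))) hσ) (𝟙 _)
    ⟨by rw [pullback.lift_snd, Category.comp_id]⟩
  obtain ⟨⟨m⟩⟩ := (UniversallyClosed.eq_valuativeCriterion.le _ _ _
    (inferInstanceAs (UniversallyClosed q))).1 Sq
  obtain ⟨l, hl1, hl2⟩ : ∃ l : Spec (CommRingCat.of A) ⟶ pullback f g,
      Spec.map (CommRingCat.ofHom (algebraMap A K)) ≫ l = pullback.lift σ (Spec.map (CommRingCat.ofHom (algebraMap A K))) hσ ∧
      l ≫ q = 𝟙 _ := ⟨m.l, m.fac_left, m.fac_right⟩
  refine ⟨l ≫ pullback.fst f g, ?_, ?_⟩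
  · rw [Category.assoc, pullback.condition, ← Category.assoc, hl2, Category.id_comp]
  · rw [← Category.assoc, hl1, pullback.lift_fst]

end Groth.Agent.EGA43.ProperDvr
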