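import Groth.Agent.EGA43.ProperDvr.Criterion
import Groth.Agent.Props12.KerReduced
import Mathlib.Topology.NoetherianSpace

/-!
# EGA IV 15.7.5: properness near a point, tested on discrete valuation rings
-/

set_option autoImplicit false
set_option backward.isDefEq.respectTransparency false
set_option linter.style.haveILetI false

universe u

namespace Groth.Agent.EGA43.ProperDvr

open CategoryTheory CategoryTheory.Limits AlgebraicGeometry IsLocalRing TopologicalSpace Groth.Agent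

variable {X Y : Scheme.{u}}

/-- A reduced scheme mapping into a closed set maps into the reduced subscheme on it. -/
theorem exists_lift_closed {T : Scheme.{u}} [AlgebraicGeometry.IsReduced T] (φ : T ⟶ X) (C : Closeds X)
    (h : Set.range φ ⊆ C) :
    ∃ l : T ⟶ (Scheme.IdealSheafData.vanishingIdeal C).subscheme,
      l ≫ (Scheme.IdealSheafData.vanishingIdeal C).subschemeι = φ := by
  refine ⟨IsClosedImmersion.lift _ φ ?_, IsClosedImmersion.lift_fac _ _ _⟩
  rw [Scheme.IdealSheafData.ker_subschemeι, Props12.ker_eq_vanishingIdeal φ]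
  exact Scheme.IdealSheafData.vanishingIdeal_antimono (closure_minimal h C.isClosed)

theorem isProper_restrict_of_le (f : X ⟶ Y) {U U' : Y.Opens} (hUU : U' ≤ U) (h : IsProper (f ∣_ U)) :
    IsProper (f ∣_ U') := by
  refine MorphismProperty.of_isPullback (P := @IsProper) (f := Y.homOfLE hUU) (g := f ∣_ U)
    (f' := X.homOfLE (f.preimage_mono hUU)) (g' := f ∣_ U') ?_ h
  refine IsPullback.of_right (h₁₂ := (f ⁻¹ᵁ U).ι) (h₂₂ := U.ι) (v₁₃ := f) ?_
    (morphismRestrict_homOfLE f _ _ hUU).symm (isPullback_morphismRestrict f U).flip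
  rw [Scheme.homOfLE_ι, Scheme.homOfLE_ι]
  exact (isPullback_morphismRestrict f U').flip

theorem range_subset_of_mem {K : Type u} [Field K] (φ : Spec (CommRingCat.of K) ⟶ X) {C : Set X}
    (h : φ (closedPoint K) ∈ C) : Set.range φ ⊆ C := by
  rintro _ ⟨t, rfl⟩
  rwa [show t = closedPoint K from Subsingleton.elim (α := PrimeSpectrum K) _ _]

/-- The reduced subscheme on the closure of a point, with its generic point. -/
theorem exists_integral_closure (ξ : X) :
    ∃ (Z : Scheme.{u}) (_ : IsIntegral Z) (i : Z ⟶ X) (_ : IsClosedImmersion i),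
      i (genericPoint Z) = ξ ∧ (∀ w, ξ ⤳ w → w ∈ Set.range i) ∧
      ∀ {T : Scheme.{u}} [AlgebraicGeometry.IsReduced T] (φ : T ⟶ X), Set.range φ ⊆ closure {ξ} → ∃ l, l ≫ i = φ := by
  let C : Closeds X := ⟨closure {ξ}, isClosed_closure⟩
  let I := Scheme.IdealSheafData.vanishingIdeal C
  have hrange : Set.range I.subschemeι = closure {ξ} := by
    rw [Scheme.IdealSheafData.range_subschemeι]
    rfl
  obtain ⟨t, ht⟩ : ξ ∈ Set.range I.subschemeι := hrange ▸ subset_closure rfl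
  have hgen : ∀ z, t ⤳ z := fun z => I.subschemeι.isEmbedding.isInducing.specializes_iff.1
    (ht ▸ specializes_iff_mem_closure.2 (hrange ▸ ⟨z, rfl⟩ : I.subschemeι z ∈ closure {ξ}))
  have hu : IsGenericPoint t (Set.univ : Set I.subscheme) := by
    refine Set.eq_univ_of_forall fun z => ?_
    exact (hgen z).mem_closure
  haveI : IrreducibleSpace I.subscheme :=
    { toPreirreducibleSpace := ⟨hu.isIrreducible.2⟩, toNonempty := ⟨t⟩ }
  haveI : AlgebraicGeometry.IsReduced I.subscheme := Props12.isReduced_subscheme_vanishingIdeal C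
  haveI : IsIntegral I.subscheme := isIntegral_of_irreducibleSpace_of_isReduced _
  refine ⟨I.subscheme, inferInstance, I.subschemeι, inferInstance, ?_,
    fun w hw => hrange ▸ hw.mem_closure, fun {T} _ φ hφ => exists_lift_closed φ C hφ⟩
  rw [IsGenericPoint.eq (genericPoint_spec I.subscheme) hu]
  exact ht

variable [IsLocallyNoetherian Y]

/-- Properness near `y` of the closure of one point. -/
theorem exists_isProper_closure (f : X ⟶ Y) [IsSeparated f] [LocallyOfFiniteType f] [QuasiCompact f]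
    {Z : Scheme.{u}} [IsIntegral Z] (i : Z ⟶ X) [IsClosedImmersion i] (y : Y)
    (hy : f (i (genericPoint Z)) ⤳ y)
    (H : ∀ (A : Type u) [CommRing A] [IsDomain A] [IsDiscreteValuationRing A] (K : Type u) [Field K]
      [Algebra A K] [IsFractionRing A K] (g : Spec (CommRingCat.of A) ⟶ Y) (σ : Spec (CommRingCat.of K) ⟶ X),
      σ ≫ f = Spec.map (CommRingCat.ofHom (algebraMap A K)) ≫ g → g (closedPoint A) = y →
      σ (closedPoint K) = i (genericPoint Z) →
      ∃ s : Spec (CommRingCat.of A) ⟶ X, s ≫ f = g ∧ Spec.map (CommRingCat.ofHom (algebraMap A K)) ≫ s = σ) :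
    ∃ U : Y.Opens, y ∈ U ∧ IsProper ((i ≫ f) ∣_ U) := by
  obtain ⟨V, hV, hyV, -⟩ := exists_isAffineOpen_mem_and_subset (x := y) (U := ⊤) trivial
  have hξ : (i ≫ f) (genericPoint Z) ⤳ y := hy
  obtain ⟨W, hW, hyW, hξW, hW'⟩ := exists_nhd_centre (i ≫ f) (V := V) hyV hV hξ (fun R hR h1 h2 => by
    obtain ⟨φ, hφy, hφ⟩ := ValExtLib.exists_base_of_dominated (i ≫ f) R y hξ h1 h2
    haveI := hR
    obtain ⟨s, hs, hsσ⟩ := H R Z.functionField φ (Z.fromSpecStalk (genericPoint Z) ≫ i)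
      (by rw [Category.assoc]; exact hφ.symm) hφy
      (congrArg i (Scheme.fromSpecStalk_closedPoint (x := genericPoint Z)))
    obtain ⟨l, hl⟩ : ∃ l, l ≫ i = s := by
      let o : ↥(Spec (CommRingCat.of R)) := Spec.map (CommRingCat.ofHom (algebraMap R Z.functionField)) (closedPoint _)
      have ho : s o = i (genericPoint Z) :=
        (congrArg (fun ψ : Spec (CommRingCat.of Z.functionField) ⟶ X => ψ (closedPoint _)) hsσ).trans
          (congrArg i (Scheme.fromSpecStalk_closedPoint (x := genericPoint Z)))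
      have hall : ∀ p : ↥(Spec (CommRingCat.of R)), o ⤳ p := fun p => by
        refine (PrimeSpectrum.le_iff_specializes o p).1 ?_
        show Ideal.comap _ _ ≤ _
        rw [show (closedPoint Z.functionField).asIdeal = ⊥ from IsLocalRing.isField_iff_maximalIdeal_eq.1 (Field.toIsField _)]
        exact le_of_eq_of_le (Ideal.comap_bot_of_injective _ Subtype.val_injective) bot_le
      refine ⟨IsClosedImmersion.lift i s ?_, IsClosedImmersion.lift_fac _ _ _⟩
      rw [Props12.ker_eq_vanishingIdeal i, Props12.ker_eq_vanishingIdeal s]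
      refine Scheme.IdealSheafData.vanishingIdeal_antimono (closure_minimal ?_ isClosed_closure)
      rintro _ ⟨p, rfl⟩
      exact (i.isClosedEmbedding.isClosed_range.closure_eq.ge
        (((hall p).map s.continuous).mem_closed i.isClosedEmbedding.isClosed_range (ho ▸ ⟨_, rfl⟩)))
    have hgenl : Spec.map (CommRingCat.ofHom R.subtype) ≫ l = Z.fromSpecStalk (genericPoint Z) := by
      rw [← cancel_mono i, Category.assoc, hl]
      exact hsσ
    refine ⟨l (closedPoint R), ?_, (ValExtLib.exists_dominated_of_spec R l hgenl).1⟩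
    rw [← hφy]
    show (i ≫ f) (l (closedPoint R)) = φ (closedPoint R)
    rw [← Scheme.Hom.comp_apply, ← Category.assoc, hl, hs])
  exact ⟨W, hyW, isProper_morphismRestrict_of_centres (i ≫ f) hW hξW hW'⟩

/-- EGA IV 15.7.5. -/
theorem exists_isProper_of_dvr (f : X ⟶ Y) [IsSeparated f] [LocallyOfFiniteType f] [QuasiCompact f] (y : Y)
    (H : ∀ ξ : X, (∀ z, z ⤳ ξ → z = ξ) →
      ∀ (A : Type u) [CommRing A] [IsDomain A] [IsDiscreteValuationRing A] (K : Type u) [Field K]
      [Algebra A K] [IsFractionRing A K] (g : Spec (CommRingCat.of A) ⟶ Y) (σ : Spec (CommRingCat.of K) ⟶ X),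
      σ ≫ f = Spec.map (CommRingCat.ofHom (algebraMap A K)) ≫ g → g (closedPoint A) = y →
      σ (closedPoint K) = ξ →
      ∃ s : Spec (CommRingCat.of A) ⟶ X, s ≫ f = g ∧ Spec.map (CommRingCat.ofHom (algebraMap A K)) ≫ s = σ) :
    ∃ U : Y.Opens, y ∈ U ∧ IsProper (f ∣_ U) := by
  classical
  obtain ⟨V, hV, hyV, -⟩ := exists_isAffineOpen_mem_and_subset (x := y) (U := ⊤) trivial
  haveI : IsLocallyNoetherian X := LocallyOfFiniteType.isLocallyNoetherian f
  haveI : IsAffine V.toScheme := hV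
  haveI : CompactSpace (f ⁻¹ᵁ V).toScheme := QuasiCompact.compactSpace_of_compactSpace (f ∣_ V)
  haveI : IsNoetherian (f ⁻¹ᵁ V).toScheme := {}
  -- the maximal points over `V`
  let T : Set X := {ξ | ξ ∈ f ⁻¹ᵁ V ∧ ∀ z, z ⤳ ξ → z = ξ}
  have hT : T.Finite := by
    refine Set.Finite.of_finite_image (f := fun ξ => (f ⁻¹ᵁ V).ι.base ⁻¹' closure {ξ})
      ((NoetherianSpace.finite_irreducibleComponents (α := (f ⁻¹ᵁ V).toScheme)).subset ?_) fun a ha b hb hab => ?_
    · rintro _ ⟨ξ, ⟨hξV, hmax⟩, rfl⟩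
      let ξ' : (f ⁻¹ᵁ V).toScheme := ⟨ξ, hξV⟩
      have hcl : (f ⁻¹ᵁ V).ι.base ⁻¹' closure {ξ} = closure {ξ'} := by
        ext w
        rw [Set.mem_preimage, ← specializes_iff_mem_closure, ← specializes_iff_mem_closure]
        exact (f ⁻¹ᵁ V).ι.isEmbedding.isInducing.specializes_iff (x := ξ') (y := w)
      show (f ⁻¹ᵁ V).ι.base ⁻¹' closure {ξ} ∈ _
      rw [hcl]
      refine ⟨isIrreducible_singleton.closure, fun S hS hle => ?_⟩
      have hgp := (hS.closure).isGenericPoint_genericPoint (isClosed_closure)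
      have h1 : hS.closure.genericPoint ⤳ ξ' :=
        hgp.specializes (subset_closure (hle (subset_closure rfl)))
      have h2 : hS.closure.genericPoint = ξ' :=
        Subtype.ext (hmax _ (h1.map continuous_subtype_val))
      intro w hw
      rw [← specializes_iff_mem_closure, ← h2]
      exact hgp.specializes (subset_closure hw)
    · have h1 : (⟨b, hb.1⟩ : (f ⁻¹ᵁ V).toScheme) ∈ (f ⁻¹ᵁ V).ι.base ⁻¹' closure {a} := by
        rw [show (f ⁻¹ᵁ V).ι.base ⁻¹' closure {a} = _ from hab]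
        exact subset_closure (Set.mem_singleton b)
      exact hb.2 a (specializes_iff_mem_closure.2 h1)
  have hcover : ∀ w, w ∈ f ⁻¹ᵁ V → ∃ ξ ∈ T, ξ ⤳ w := by
    intro w hw
    let w' : (f ⁻¹ᵁ V).toScheme := ⟨w, hw⟩
    obtain ⟨S, hS, hwS⟩ : ∃ S, S ∈ irreducibleComponents (f ⁻¹ᵁ V).toScheme ∧ w' ∈ S :=
      ⟨irreducibleComponent w', irreducibleComponent_mem_irreducibleComponents w', mem_irreducibleComponent⟩
    have hgp := hS.1.isGenericPoint_genericPoint (isClosed_of_mem_irreducibleComponents S hS)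
    refine ⟨hS.1.genericPoint.1, ⟨hS.1.genericPoint.2, fun z hz => ?_⟩, (hgp.specializes hwS).map continuous_subtype_val⟩
    have hzV : z ∈ f ⁻¹ᵁ V := hz.mem_open (f ⁻¹ᵁ V).isOpen hS.1.genericPoint.2
    let z' : (f ⁻¹ᵁ V).toScheme := ⟨z, hzV⟩
    have hz' : z' ⤳ hS.1.genericPoint := Topology.IsInducing.subtypeVal.specializes_iff.1 hz
    have hsub : S ⊆ closure {z'} := fun q hq => (hz'.trans (hgp.specializes hq)).mem_closure
    have h3 : hS.1.genericPoint ⤳ z' := hgp.specializes (hS.2 isIrreducible_singleton.closure hsub (subset_closure rfl))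
    exact congrArg Subtype.val (hz'.antisymm h3).eq
  -- one neighbourhood for each of them
  have hU : ∀ ξ : X, ∃ U : Y.Opens, y ∈ U ∧ (ξ ∈ T → f ξ ∈ U → ∃ (Z : Scheme.{u}) (i : Z ⟶ X),
      IsProper ((i ≫ f) ∣_ U) ∧ ∀ {S : Scheme.{u}} [AlgebraicGeometry.IsReduced S] (φ : S ⟶ X),
        Set.range φ ⊆ closure {ξ} → ∃ l, l ≫ i = φ) := by
    intro ξ
    by_cases hξy : ξ ∈ T ∧ f ξ ⤳ y
    · obtain ⟨Z, _, i, _, hi, -, hlift⟩ := exists_integral_closure ξ
      obtain ⟨U, hyU, hU⟩ := exists_isProper_closure f i y (hi ▸ hξy.2)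
        fun A _ _ _ K _ _ _ g σ h1 h2 h3 => H ξ hξy.1.2 A K g σ h1 h2 (h3.trans hi)
      exact ⟨U, hyU, fun _ _ => ⟨Z, i, hU, hlift⟩⟩
    · by_cases hξT : ξ ∈ T
      · refine ⟨⟨(closure {f ξ})ᶜ, isClosed_closure.isOpen_compl⟩, ?_, fun _ h => absurd (subset_closure (Set.mem_singleton (f ξ)) : f ξ ∈ closure {f ξ}) h⟩
        exact fun h => hξy ⟨hξT, specializes_iff_mem_closure.2 h⟩
      · exact ⟨⊤, trivial, fun h => absurd h hξT⟩
  choose U hyU hU using hU
  let U₀ : Y.Opens := V ⊓ hT.toFinset.inf U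
  have hy₀ : y ∈ U₀ := ⟨hyV, by
    have : ∀ s : Finset X, y ∈ s.inf U := fun s => by
      induction s using Finset.induction_on with
      | empty => simp
      | insert a s _ ih => rw [Finset.inf_insert]; exact ⟨hyU a, ih⟩
    exact this _⟩
  have hle : ∀ ξ ∈ T, U₀ ≤ U ξ := fun ξ hξ => inf_le_right.trans (Finset.inf_le (hT.mem_toFinset.2 hξ))
  haveI : UniversallyClosed (f ∣_ U₀) := UniversallyClosed.of_valuativeCriterion _ (by
    intro S
    let φ := S.i₁ ≫ (f ⁻¹ᵁ U₀).ι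
    let w := φ (closedPoint S.K)
    have hwU : f w ∈ U₀ := ((f ⁻¹ᵁ U₀).range_ι.le ⟨S.i₁ (closedPoint S.K), rfl⟩ :)
    obtain ⟨ξ, hξ, hξw⟩ := hcover w hwU.1
    have hfξ : f ξ ∈ U₀ := (hξw.map f.continuous).mem_open U₀.isOpen hwU
    obtain ⟨Z, i, hprop, hlift⟩ := hU ξ hξ (hle ξ hξ hfξ)
    obtain ⟨l, hl⟩ := hlift φ (range_subset_of_mem φ hξw.mem_closure)
    have e₁ : i ⁻¹ᵁ (f ⁻¹ᵁ U₀) = (i ≫ f) ⁻¹ᵁ U₀ := rfl
    haveI : IsProper ((i ≫ f) ∣_ U₀) :=
      isProper_restrict_of_le (i ≫ f) (hle ξ hξ) hprop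
    let i' : ((i ≫ f) ⁻¹ᵁ U₀).toScheme ⟶ (f ⁻¹ᵁ U₀).toScheme := i ∣_ (f ⁻¹ᵁ U₀)
    obtain ⟨l', hl'⟩ : ∃ l', l' ≫ i' = S.i₁ :=
      ⟨(isPullback_morphismRestrict i (f ⁻¹ᵁ U₀)).lift S.i₁ l hl.symm, IsPullback.lift_fst _ _ _ _⟩
    have hc : i' ≫ f ∣_ U₀ = (i ≫ f) ∣_ U₀ := (morphismRestrict_comp i f U₀).symm
    have hex : ValuativeCriterion.Existence ((i ≫ f) ∣_ U₀) :=
      (UniversallyClosed.eq_valuativeCriterion.le _ _ _ (inferInstanceAs (UniversallyClosed ((i ≫ f) ∣_ U₀)))).1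
    let S' : ValuativeCommSq ((i ≫ f) ∣_ U₀) :=
      ValuativeCommSq.mk S.R S.K l' S.i₂ ⟨by rw [← hc, ← Category.assoc, hl']; exact S.commSq.w⟩
    obtain ⟨⟨m⟩⟩ := hex S'
    exact ⟨⟨⟨m.l ≫ i', by rw [← Category.assoc, m.fac_left, hl'],
      by rw [Category.assoc, hc, m.fac_right]⟩⟩⟩)
  exact ⟨U₀, hy₀, {}⟩

end Groth.Agent.EGA43.ProperDvr
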