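import Groth.Agent.EGA43.ProperDvr.Closed

/-!
# Rational points over the generic point of a discrete valuation ring; EGA IV 15.7.6
-/

set_option autoImplicit false
set_option backward.isDefEq.respectTransparency false
set_option linter.style.haveILetI false

universe u

namespace Groth.Agent.EGA43.ProperDvr

open CategoryTheory CategoryTheory.Limits AlgebraicGeometry IsLocalRing TopologicalSpace Groth.Agent

variable {X Y : Scheme.{u}}

theorem exists_factor {K : Type u} [Field K] (a : Spec (CommRingCat.of K) ⟶ X) (x : X) (h : a (closedPoint K) = x) :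
    ∃ φ : X.residueField x ⟶ CommRingCat.of K, Spec.map φ ≫ X.fromSpecResidueField x = a := by
  subst h
  exact ⟨_, (Scheme.SpecToEquivOfField K X).symm_apply_apply a⟩

theorem genericPoint_spec_eq (A : Type u) [CommRing A] [IsDomain A] :
    genericPoint (Spec (CommRingCat.of A)) = (⟨⊥, Ideal.isPrime_bot⟩ : PrimeSpectrum A) := by
  have h : IsGenericPoint (⟨⊥, Ideal.isPrime_bot⟩ : PrimeSpectrum A) Set.univ :=
    Set.eq_univ_of_forall fun p => ((PrimeSpectrum.le_iff_specializes _ p).1 bot_le).mem_closure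
  exact IsGenericPoint.eq (genericPoint_spec (Spec (CommRingCat.of A))) h

theorem specMap_frac_apply (A K : Type u) [CommRing A] [IsDomain A] [Field K] [Algebra A K] [IsFractionRing A K]
    (c : ↥(Spec (CommRingCat.of K))) :
    Spec.map (CommRingCat.ofHom (algebraMap A K)) c = genericPoint (Spec (CommRingCat.of A)) := by
  rw [genericPoint_spec_eq]
  refine PrimeSpectrum.ext ?_
  show Ideal.comap _ (c : PrimeSpectrum K).asIdeal = ⊥
  rw [Subsingleton.elim (α := PrimeSpectrum K) c ⟨⊥, Ideal.isPrime_bot⟩]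
  exact Ideal.comap_bot_of_injective _ (IsFractionRing.injective A K)

/-- The residue field of a rational point over the generic point. -/
theorem exists_fractions {A : Type u} [CommRing A] [IsDomain A] {W : Scheme.{u}} (q : W ⟶ Spec (CommRingCat.of A))
    (x : W) (hq : q x = genericPoint (Spec (CommRingCat.of A))) :
    ∃ u : CommRingCat.of A ⟶ W.residueField x, Spec.map u = W.fromSpecResidueField x ≫ q ∧
      Function.Injective u.hom ∧
      (Function.Surjective (q.residueFieldMap x).hom ↔ ∀ z, ∃ a b : A, b ≠ 0 ∧ z * u.hom b = u.hom a) := by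
  let p := q x
  let r : CommRingCat.of A ⟶ (Spec (CommRingCat.of A)).residueField p :=
    StructureSheaf.toStalk A p ≫ (Spec (CommRingCat.of A)).residue p
  have hr : Spec.map r = (Spec (CommRingCat.of A)).fromSpecResidueField p := by
    rw [Spec.map_comp]
    exact congrArg (Spec.map ((Spec (CommRingCat.of A)).residue p) ≫ ·) (Spec.fromSpecStalk_eq' (CommRingCat.of A) p).symm
  have hp : (p : PrimeSpectrum A).asIdeal = ⊥ := congrArg PrimeSpectrum.asIdeal (hq.trans (genericPoint_spec_eq A))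
  have hfr : ∀ z : (Spec (CommRingCat.of A)).residueField p, ∃ a b : A, b ≠ 0 ∧ z * r.hom b = r.hom a := by
    intro z
    obtain ⟨s, rfl⟩ := Scheme.residue_surjective _ p z
    obtain ⟨⟨a, b⟩, hab⟩ := IsLocalization.surj (p : PrimeSpectrum A).asIdeal.primeCompl
      (S := (Spec.structureSheaf A).presheaf.stalk p) s
    exact ⟨a, b, fun h => b.2 (h ▸ zero_mem _), ((map_mul ((Spec (CommRingCat.of A)).residue p).hom _ _).symm.trans
      (congrArg ((Spec (CommRingCat.of A)).residue p).hom hab) :)⟩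
  refine ⟨r ≫ q.residueFieldMap x, ?_, ?_, ?_⟩
  · rw [Spec.map_comp, hr, q.SpecMap_residueFieldMap_fromSpecResidueField]
  · rw [injective_iff_map_eq_zero]
    intro a ha
    by_contra hne
    have h1 : a ∈ (p : PrimeSpectrum A).asIdeal.primeCompl := fun h => hne (by
      have h' : a ∈ (⊥ : Ideal A) := hp ▸ h
      exact h')
    have h2 : IsUnit (r.hom a) :=
      (IsLocalization.map_units ((Spec.structureSheaf A).presheaf.stalk p) ⟨a, h1⟩).map
        ((Spec (CommRingCat.of A)).residue p).hom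
    exact ((h2.map (q.residueFieldMap x).hom).ne_zero ha)
  · constructor
    · intro hs z
      obtain ⟨w, rfl⟩ := hs z
      obtain ⟨a, b, hb, h⟩ := hfr w
      exact ⟨a, b, hb, ((map_mul (q.residueFieldMap x).hom _ _).symm.trans (congrArg (q.residueFieldMap x).hom h) :)⟩
    · intro h z
      obtain ⟨a, b, hb, hab⟩ := h z
      refine ⟨r.hom a / r.hom b, ?_⟩
      rw [map_div₀]
      refine (div_eq_iff ?_).2 hab.symm
      intro h0
      refine hb ?_
      by_contra hne
      have h1 : b ∈ (p : PrimeSpectrum A).asIdeal.primeCompl := fun h => hne (by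
        have h' : b ∈ (⊥ : Ideal A) := hp ▸ h
        exact h')
      exact (((IsLocalization.map_units ((Spec.structureSheaf A).presheaf.stalk p) ⟨b, h1⟩).map
        ((Spec (CommRingCat.of A)).residue p).hom).map (q.residueFieldMap x).hom).ne_zero h0

/-- A point of the fraction field gives a rational point, and determines it. -/
theorem rational_of_frac {A : Type u} [CommRing A] [IsDomain A] (K : Type u) [Field K] [Algebra A K]
    [IsFractionRing A K] {W : Scheme.{u}} (q : W ⟶ Spec (CommRingCat.of A))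
    (a : Spec (CommRingCat.of K) ⟶ W) (ha : a ≫ q = Spec.map (CommRingCat.ofHom (algebraMap A K))) :
    q (a (closedPoint K)) = genericPoint (Spec (CommRingCat.of A)) ∧
    Function.Bijective (q.residueFieldMap (a (closedPoint K))).hom ∧
    ∀ b : Spec (CommRingCat.of K) ⟶ W, b ≫ q = Spec.map (CommRingCat.ofHom (algebraMap A K)) →
      b (closedPoint K) = a (closedPoint K) → b = a := by
  have hgen : q (a (closedPoint K)) = genericPoint (Spec (CommRingCat.of A)) :=
    (congrArg (fun ψ : Spec (CommRingCat.of K) ⟶ Spec (CommRingCat.of A) => ψ (closedPoint K)) ha).trans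
      (specMap_frac_apply A K _)
  obtain ⟨u, hu, hinj, hsurj⟩ := exists_fractions q _ hgen
  obtain ⟨φ, hφ⟩ := exists_factor a _ rfl
  have hcomp : ∀ (b : Spec (CommRingCat.of K) ⟶ W) (ψ : W.residueField (a (closedPoint K)) ⟶ CommRingCat.of K),
      Spec.map ψ ≫ W.fromSpecResidueField _ = b → b ≫ q = Spec.map (CommRingCat.ofHom (algebraMap A K)) →
      ∀ c, ψ.hom (u.hom c) = algebraMap A K c := by
    intro b ψ hψ hb c
    have : u ≫ ψ = CommRingCat.ofHom (algebraMap A K) := Spec.map_injective (by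
      rw [Spec.map_comp, hu, ← Category.assoc, hψ, hb])
    exact RingHom.congr_fun (congrArg CommRingCat.Hom.hom this) c
  have hfrac : ∀ z, ∃ c d : A, d ≠ 0 ∧ z * u.hom d = u.hom c := by
    intro z
    obtain ⟨c, d, hd, h⟩ := IsFractionRing.div_surjective (A := A) (φ.hom z)
    refine ⟨c, d, nonZeroDivisors.ne_zero hd, φ.hom.injective ?_⟩
    rw [map_mul, hcomp a φ hφ ha, hcomp a φ hφ ha, ← h,
      div_mul_cancel₀ _ (by simpa using nonZeroDivisors.ne_zero hd)]
  refine ⟨hgen, ⟨(q.residueFieldMap _).hom.injective, hsurj.2 hfrac⟩, fun b hb hba => ?_⟩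
  obtain ⟨ψ, hψ⟩ := exists_factor b _ hba
  refine hψ.symm.trans (Eq.trans ?_ hφ)
  congr 2
  ext z
  obtain ⟨c, d, hd, h⟩ := hfrac z
  have h1 := congrArg ψ.hom h
  have h2 := congrArg φ.hom h
  rw [map_mul, hcomp b ψ hψ hb, hcomp b ψ hψ hb] at h1
  rw [map_mul, hcomp a φ hφ ha, hcomp a φ hφ ha] at h2
  exact mul_right_cancel₀ (by simpa using hd) (h1.trans h2.symm)

/-- The reduced subscheme on a closed set, over an open of the base. -/
theorem isProper_subscheme_iff (f : X ⟶ Y) (C : Closeds X) (U : Y.Opens)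
    (hC : IsClosed ((f ⁻¹ᵁ U).ι.base ⁻¹' (C : Set X))) :
    IsProper ((Scheme.IdealSheafData.vanishingIdeal
        (⟨(f ⁻¹ᵁ U).ι.base ⁻¹' (C : Set X), hC⟩ : Closeds ↥(f ⁻¹ᵁ U).toScheme)).subschemeι ≫ (f ∣_ U)) ↔
      IsProper (((Scheme.IdealSheafData.vanishingIdeal C).subschemeι ≫ f) ∣_ U) := by
  let C' : Closeds ↥(f ⁻¹ᵁ U).toScheme := ⟨(f ⁻¹ᵁ U).ι.base ⁻¹' (C : Set X), hC⟩
  let i := (Scheme.IdealSheafData.vanishingIdeal C).subschemeι
  let j : ((i ≫ f) ⁻¹ᵁ U).toScheme ⟶ (f ⁻¹ᵁ U).toScheme := i ∣_ (f ⁻¹ᵁ U)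
  let i' := (Scheme.IdealSheafData.vanishingIdeal C').subschemeι
  haveI : IsClosedImmersion j := MorphismProperty.of_isPullback (isPullback_morphismRestrict i (f ⁻¹ᵁ U)).flip inferInstance
  haveI : AlgebraicGeometry.IsReduced (Scheme.IdealSheafData.vanishingIdeal C).subscheme :=
    Props12.isReduced_subscheme_vanishingIdeal C
  haveI : AlgebraicGeometry.IsReduced ((i ≫ f) ⁻¹ᵁ U).toScheme := isReduced_of_isOpenImmersion ((i ≫ f) ⁻¹ᵁ U).ι
  haveI : AlgebraicGeometry.IsReduced (Scheme.IdealSheafData.vanishingIdeal C').subscheme :=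
    Props12.isReduced_subscheme_vanishingIdeal C'
  have hi : Set.range i = (C : Set X) := by rw [Scheme.IdealSheafData.range_subschemeι]; rfl
  have hi' : Set.range i' = (C' : Set ↥(f ⁻¹ᵁ U).toScheme) := by rw [Scheme.IdealSheafData.range_subschemeι]; rfl
  have hj : Set.range j = (C' : Set ↥(f ⁻¹ᵁ U).toScheme) := by
    ext w
    constructor
    · rintro ⟨t, rfl⟩
      show (f ⁻¹ᵁ U).ι (j t) ∈ (C : Set X)
      rw [← hi]
      exact ⟨_, (congrArg (fun ψ : ((i ≫ f) ⁻¹ᵁ U).toScheme ⟶ X => ψ t) (morphismRestrict_ι i (f ⁻¹ᵁ U))).symm⟩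
    · intro hw
      obtain ⟨t, ht⟩ : (f ⁻¹ᵁ U).ι w ∈ Set.range i := hi.ge hw
      have hm : t ∈ i ⁻¹ᵁ (f ⁻¹ᵁ U) := by
        show i t ∈ f ⁻¹ᵁ U
        rw [ht]
        exact (f ⁻¹ᵁ U).range_ι.le ⟨w, rfl⟩
      refine ⟨⟨t, hm⟩, (f ⁻¹ᵁ U).ι.isEmbedding.injective ?_⟩
      exact ((congrArg (fun ψ : (i ⁻¹ᵁ (f ⁻¹ᵁ U)).toScheme ⟶ X => ψ ⟨t, hm⟩) (morphismRestrict_ι i (f ⁻¹ᵁ U))).trans ht :)
  let a := IsClosedImmersion.lift i' j (by
    rw [Scheme.IdealSheafData.ker_subschemeι, Props12.ker_eq_vanishingIdeal j]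
    exact Scheme.IdealSheafData.vanishingIdeal_antimono (closure_minimal hj.le C'.isClosed))
  let b := IsClosedImmersion.lift j i' (by
    rw [Props12.ker_eq_vanishingIdeal i', Props12.ker_eq_vanishingIdeal j]
    exact Scheme.IdealSheafData.vanishingIdeal_antimono (closure_mono (hi'.le.trans hj.ge)))
  have hab : a ≫ i' = j := IsClosedImmersion.lift_fac _ _ _
  have hba : b ≫ j = i' := IsClosedImmersion.lift_fac _ _ _
  let e : ((i ≫ f) ⁻¹ᵁ U).toScheme ≅ (Scheme.IdealSheafData.vanishingIdeal C').subscheme :=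
    { hom := a, inv := b
      hom_inv_id := by rw [← cancel_mono j, Category.assoc, hba, hab, Category.id_comp]
      inv_hom_id := by rw [← cancel_mono i', Category.assoc, hab, hba, Category.id_comp] }
  show IsProper (i' ≫ f ∣_ U) ↔ IsProper ((i ≫ f) ∣_ U)
  haveI : IsIso a := ⟨⟨b, e.hom_inv_id, e.inv_hom_id⟩⟩
  rw [show (i ≫ f) ∣_ U = a ≫ i' ≫ f ∣_ U by rw [morphismRestrict_comp, ← Category.assoc, hab]]
  exact (MorphismProperty.cancel_left_of_respectsIso @IsProper a _).symm

end Groth.Agent.EGA43.ProperDvr
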