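import Groth.Agent.EGA43.ProperDvr.Connected
import Groth.Agent.EGA43.FiniteCrit.DvrExt
import Groth.Agent.H8ProCons.ConsTopology
import Groth.Agent.DVRDom.Section
import Groth.Agent.DVRDom.Points
import Groth.Agent.H8Top.Components

/-!
# EGA IV 15.7.8: properness near a point from connected fibres
-/

set_option autoImplicit false
set_option backward.isDefEq.respectTransparency false
set_option linter.style.haveILetI false

universe u

namespace Groth.Agent.EGA43.ProperDvr

open CategoryTheory CategoryTheory.Limits AlgebraicGeometry IsLocalRing TopologicalSpace Groth.Agent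

variable {X Y : Scheme.{u}}

theorem exists_specializes_of_mem_closure [IsLocallyNoetherian X] {Z : Set X}
    (hZ : Topology.IsLocallyConstructible Z) {x : X} (hx : x ∈ closure Z) : ∃ z ∈ Z, z ⤳ x := by
  obtain ⟨W, hW, hxW, -⟩ := exists_isAffineOpen_mem_and_subset (x := x) (U := ⊤) trivial
  haveI : IsAffine W.toScheme := hW
  haveI : AlgebraicGeometry.IsNoetherian W.toScheme := {}
  have hc : Topology.IsConstructible (W.ι.base ⁻¹' Z) :=
    (hZ.preimage_of_isOpenEmbedding W.ι.isOpenEmbedding).isConstructible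
  have hx' : (⟨x, hxW⟩ : W.toScheme) ∈ closure (W.ι.base ⁻¹' Z) := by
    rw [← W.ι.isOpenEmbedding.isOpenMap.preimage_closure_eq_closure_preimage W.ι.continuous Z]
    exact hx
  obtain ⟨z, hz, hzx⟩ := H8ProCons.exists_specializes_of_mem_closure
    (H8ProCons.isClosed_cons_of_isConstructible hc) hx'
  exact ⟨z.1, hz, hzx.map W.ι.continuous⟩

/-- Two morphisms from the spectrum of a local domain agreeing on the closed point and on the fraction
field are equal. -/
theorem hom_ext_local {A : Type u} [CommRing A] [IsDomain A] [IsLocalRing A] {K : Type u} [Field K] [Algebra A K]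
    [IsFractionRing A K] (a b : Spec (CommRingCat.of A) ⟶ Y) (hc : a (closedPoint A) = b (closedPoint A))
    (h : Spec.map (CommRingCat.ofHom (algebraMap A K)) ≫ a = Spec.map (CommRingCat.ofHom (algebraMap A K)) ≫ b) :
    a = b := by
  obtain ⟨V, hV, hyV, -⟩ := exists_isAffineOpen_mem_and_subset (x := a (closedPoint A)) (U := ⊤) trivial
  haveI : IsAffine V.toScheme := hV
  have hsub : ∀ c : Spec (CommRingCat.of A) ⟶ Y, c (closedPoint A) = a (closedPoint A) →
      Set.range c ⊆ Set.range V.ι := by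
    rintro c hc _ ⟨p, rfl⟩
    rw [Scheme.Opens.range_ι]
    exact ((IsLocalRing.specializes_closedPoint p).map c.continuous).mem_open V.isOpen (hc.symm ▸ hyV)
  let a' := IsOpenImmersion.lift V.ι a (hsub a rfl)
  let b' := IsOpenImmersion.lift V.ι b (hsub b hc.symm)
  have ha : a' ≫ V.ι = a := IsOpenImmersion.lift_fac _ _ _
  have hb : b' ≫ V.ι = b := IsOpenImmersion.lift_fac _ _ _
  have key : a' = b' := ValExtLib.hom_ext_of_generic (CommRingCat.ofHom (algebraMap A K))
    (IsFractionRing.injective A K) (by rw [← cancel_mono V.ι, Category.assoc, Category.assoc, ha, hb, h])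
  rw [← ha, ← hb, key]

/-- The fibre over a field-valued point. -/
theorem exists_fibre_map {S : Scheme.{u}} (f : X ⟶ Y) (h : S ⟶ Y) (K : Type u) [Field K]
    (m : Spec (CommRingCat.of K) ⟶ S) (y : Y) [Algebra (IsLocalRing.ResidueField (Y.presheaf.stalk y)) K]
    (hm : m ≫ h = Spec.map (CommRingCat.ofHom (algebraMap (IsLocalRing.ResidueField (Y.presheaf.stalk y)) K)) ≫
      Y.fromSpecResidueField y) :
    ∃ r : FBase.bc (f.fiberToSpecResidueField y) K ⟶ pullback f h,
      r ≫ pullback.fst f h = FBase.bcπ (f.fiberToSpecResidueField y) K ≫ f.fiberι y ∧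
      r ≫ pullback.snd f h = FBase.bcStr (f.fiberToSpecResidueField y) K ≫ m ∧
      ∀ w, pullback.snd f h w = m (closedPoint K) → w ∈ Set.range r := by
  let κ := Spec.map (CommRingCat.ofHom (algebraMap (IsLocalRing.ResidueField (Y.presheaf.stalk y)) K))
  let p₁ : pullback (f.fiberToSpecResidueField y) κ ⟶ f.fiber y := pullback.fst _ _
  let p₂ : pullback (f.fiberToSpecResidueField y) κ ⟶ Spec (CommRingCat.of K) := pullback.snd _ _
  have hcond : (p₁ ≫ f.fiberι y) ≫ f = (p₂ ≫ m) ≫ h := by
    rw [Category.assoc, Category.assoc, hm, show f.fiberι y ≫ f = f.fiberToSpecResidueField y ≫ Y.fromSpecResidueField y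
      from pullback.condition, ← Category.assoc, ← Category.assoc]
    congr 1
    exact pullback.condition
  let r : pullback (f.fiberToSpecResidueField y) κ ⟶ pullback f h := pullback.lift _ _ hcond
  refine ⟨r, pullback.lift_fst _ _ _, pullback.lift_snd _ _ _, fun w hw => ?_⟩
  obtain ⟨v, hv, -⟩ := Scheme.Pullback.exists_preimage_pullback (f := pullback.snd f h) (g := m) w (closedPoint K) hw
  have hc₁ : (pullback.fst (pullback.snd f h) m ≫ pullback.fst f h) ≫ f =
      (pullback.snd (pullback.snd f h) m ≫ κ) ≫ Y.fromSpecResidueField y := by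
    rw [Category.assoc, pullback.condition, pullback.condition_assoc, hm, Category.assoc]
  let v₁ : pullback (pullback.snd f h) m ⟶ f.fiber y := pullback.lift _ _ hc₁
  let v₂ : pullback (pullback.snd f h) m ⟶ pullback (f.fiberToSpecResidueField y) κ :=
    pullback.lift v₁ (pullback.snd _ _) (pullback.lift_snd _ _ _)
  have hv₂ : v₂ ≫ r = pullback.fst (pullback.snd f h) m := by
    apply pullback.hom_ext
    · rw [Category.assoc, pullback.lift_fst, ← Category.assoc, pullback.lift_fst]
      exact pullback.lift_fst _ _ _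
    · rw [Category.assoc, pullback.lift_snd, ← Category.assoc, pullback.lift_snd, pullback.condition]
  exact ⟨v₂ v, (congrArg (fun ψ : pullback (pullback.snd f h) m ⟶ pullback f h => ψ v) hv₂).trans hv⟩

theorem eq_closedPoint_or_generic {A : Type u} [CommRing A] [IsDomain A] [IsDiscreteValuationRing A]
    (p : ↥(Spec (CommRingCat.of A))) : p = closedPoint A ∨ p = genericPoint (Spec (CommRingCat.of A)) := by
  by_cases hp : (p : PrimeSpectrum A).asIdeal = ⊥
  · exact Or.inr ((PrimeSpectrum.ext hp).trans (genericPoint_spec_eq A).symm)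
  · haveI := ((p : PrimeSpectrum A).isPrime).isMaximal hp
    exact Or.inl (PrimeSpectrum.ext (IsLocalRing.eq_maximalIdeal inferInstance))

theorem preimage_comp_clopen (f : X ⟶ Y) [LocallyOfFiniteType f] [QuasiCompact f] (y' : Y) (x : X)
    (hx : f x = y') :
    IsClopen ((f.fiberι y').base ⁻¹' connectedComponentIn (f.base ⁻¹' {y'}) x) := by
  obtain ⟨a, rfl⟩ : x ∈ Set.range (f.fiberι y') := (f.range_fiberι y').ge hx
  have hrange : connectedComponentIn (f.base ⁻¹' {y'}) (f.fiberι y' a) ⊆ Set.range (f.fiberι y') :=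
    (connectedComponentIn_subset _ _).trans (f.range_fiberι y').ge
  have heq : (f.fiberι y').base ⁻¹' connectedComponentIn (f.base ⁻¹' {y'}) (f.fiberι y' a) = connectedComponent a := by
    refine Set.Subset.antisymm ?_ fun b hb => ?_
    · refine _root_.IsPreconnected.subset_connectedComponent
        ((f.fiberι y').isEmbedding.isInducing.isPreconnected_image.1 ?_) (mem_connectedComponentIn hx)
      rw [Set.image_preimage_eq_of_subset hrange]
      exact isPreconnected_connectedComponentIn
    · refine (isPreconnected_connectedComponent.image _ (f.fiberι y').continuous.continuousOn).subset_connectedComponentIn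
        ⟨a, mem_connectedComponent, rfl⟩ ?_ ⟨b, hb, rfl⟩
      rintro _ ⟨c, -, rfl⟩
      exact (f.range_fiberι y').le ⟨c, rfl⟩
  rw [heq]
  refine ⟨isClosed_connectedComponent, ?_⟩
  haveI : LocallyOfFiniteType (f.fiberToSpecResidueField y') :=
    inferInstanceAs (LocallyOfFiniteType (pullback.snd f (Y.fromSpecResidueField y')))
  haveI : IsLocallyNoetherian (f.fiber y') := LocallyOfFiniteType.isLocallyNoetherian (f.fiberToSpecResidueField y')
  refine H8Top.IsLocNoetherian.isOpen_connectedComponent (fun z => ?_) a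
  obtain ⟨W, hW, hzW, -⟩ := exists_isAffineOpen_mem_and_subset (x := z) (U := ⊤) trivial
  haveI := IsLocallyNoetherian.component_noetherian ⟨W, hW⟩
  exact ⟨W, W.isOpen.mem_nhds hzW, noetherianSpace_of_isAffineOpen W hW⟩

theorem mem_of_mem_closure_of_fibre (f : X ⟶ Y) (Z : Set X) (y' : Y) (x₁ : X) (hx₁ : f x₁ = y')
    (hcomp : Z ∩ f.base ⁻¹' {y'} = connectedComponentIn (f.base ⁻¹' {y'}) x₁) {w : X}
    (hw : w ∈ closure (Z ∩ f.base ⁻¹' {y'})) (hwf : f w = y') : w ∈ Z := by
  rw [hcomp] at hw
  have h3 : w ∈ connectedComponentIn (f.base ⁻¹' {y'}) x₁ :=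
    (isPreconnected_connectedComponentIn.subset_closure (t := insert w (connectedComponentIn (f.base ⁻¹' {y'}) x₁))
      (Set.subset_insert _ _) (Set.insert_subset hw subset_closure)).subset_connectedComponentIn
      (Or.inr (mem_connectedComponentIn hx₁)) (Set.insert_subset hwf (connectedComponentIn_subset _ _)) (Set.mem_insert _ _)
  exact (hcomp.ge h3).1

set_option maxHeartbeats 800000 in
/-- Sections through the points of `Z` over discrete valuation rings, EGA IV 15.7.8. -/
theorem exists_section_mem (y : Y) (f : X ⟶ Y) [IsSeparated f]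
    [LocallyOfFiniteType f] [QuasiCompact f] (Z : Set X)
    (h1 : ∀ y' : Y, y' ⤳ y → (∃ x ∈ Z, f.base x = y' ∧ Z ∩ f.base ⁻¹' {y'} = connectedComponentIn (f.base ⁻¹' {y'}) x) ∧
      ∀ (K : Type u) [Field K] [Algebra (IsLocalRing.ResidueField (Y.presheaf.stalk y')) K],
        _root_.IsPreconnected ((FBase.bcπ (f.fiberToSpecResidueField y') K ≫ f.fiberι y').base ⁻¹' Z))
    (hop : IsOpen ((f.fiberι y).base ⁻¹' Z))
    {T₀ : Scheme.{u}} (t₀ : T₀ ⟶ f.fiber y) (ht₀ : Set.range t₀ = (f.fiberι y).base ⁻¹' Z)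
    (h2 : IsProper (t₀ ≫ f.fiberToSpecResidueField y))
    (h3 : ∀ (Y' : Scheme.{u}) (h : Y' ⟶ Y) (E : Set Y'), E ⊆ h.base ⁻¹' (f.base '' Z) →
      (∃ W : Set ↥(pullback f h), IsOpen W ∧
        W ∩ (pullback.fst f h).base ⁻¹' Z = (pullback.snd f h).base ⁻¹' E ∩ (pullback.fst f h).base ⁻¹' Z) →
      ∃ V : Set Y', IsOpen V ∧ V ∩ h.base ⁻¹' (f.base '' Z) = E)
    (A : Type u) [CommRing A] [IsDomain A] [IsDiscreteValuationRing A] (K : Type u) [Field K]
    [Algebra A K] [IsFractionRing A K] (g : Spec (CommRingCat.of A) ⟶ Y) (σX : Spec (CommRingCat.of K) ⟶ X)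
    (hσX : σX ≫ f = Spec.map (CommRingCat.ofHom (algebraMap A K)) ≫ g) (hg : g (closedPoint A) = y)
    (hσXc : σX (closedPoint K) ∈ Z) :
    ∃ sA : Spec (CommRingCat.of A) ⟶ X, sA ≫ f = g ∧
      Spec.map (CommRingCat.ofHom (algebraMap A K)) ≫ sA = σX ∧ sA (closedPoint A) ∈ Z := by
  -- a complete discrete valuation ring over `A`
  obtain ⟨C, _, _, _, _, _, φ, -, hφl, hφi, -⟩ :=
    FiniteCrit.exists_completeDvr (residue A) IsLocalRing.ker_residue
  haveI := hφl
  let K' := FractionRing C
  let ψ : K →+* K' := IsFractionRing.lift (A := A) (g := (algebraMap C K').comp φ)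
    ((IsFractionRing.injective C K').comp hφi)
  have hψ : ∀ a, ψ (algebraMap A K a) = algebraMap C K' (φ a) := fun a => IsFractionRing.lift_algebraMap _ a
  let gC := Spec.map (CommRingCat.ofHom φ) ≫ g
  let frC := Spec.map (CommRingCat.ofHom (algebraMap C K'))
  let q := pullback.snd f gC
  let p := pullback.fst f gC
  have hgC : gC (closedPoint C) = y := by
    show g (Spec.map (CommRingCat.ofHom φ) (closedPoint C)) = y
    rw [show Spec.map (CommRingCat.ofHom φ) (closedPoint C) = closedPoint A from IsLocalRing.comap_closedPoint φ]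
    exact hg
  set η := genericPoint (Spec (CommRingCat.of C)) with hη
  let y' := gC η
  have hy' : y' ⤳ y := hgC ▸ (genericPoint_specializes (closedPoint C)).map gC.continuous
  have hqf : ∀ w, f (p w) = gC (q w) := fun w =>
    congrArg (fun k : pullback f gC ⟶ Y => k w) pullback.condition
  obtain ⟨⟨x₁, hx₁Z, hx₁f, hcomp⟩, hgeo⟩ := h1 y' hy'
  obtain ⟨⟨x₂, hx₂Z, hx₂f, -⟩, -⟩ := h1 y (specializes_refl y)
  -- the generic piece
  let D : Set ↥(pullback f gC) := p.base ⁻¹' Z ∩ q.base ⁻¹' {η}
  have hDclosed : ∀ w ∈ closure D, q w = η → w ∈ D := by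
    intro w hw hqw
    refine ⟨?_, hqw⟩
    have h1' : p w ∈ closure (connectedComponentIn (f.base ⁻¹' {y'}) x₁) :=
      map_mem_closure p.continuous hw fun t ht => hcomp.le ⟨ht.1, (hqf t).trans (congrArg gC ht.2)⟩
    have h2' : p w ∈ f.base ⁻¹' {y'} := (hqf w).trans (congrArg gC hqw)
    exact mem_of_mem_closure_of_fibre f Z y' x₁ hx₁f hcomp (hcomp ▸ h1') h2'
  obtain ⟨φη, hφη⟩ := exists_factor (frC ≫ gC) y' (congrArg gC (specMap_frac_apply C K' _))
  letI : Algebra (IsLocalRing.ResidueField (Y.presheaf.stalk y')) K' := φη.hom.toAlgebra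
  obtain ⟨r, hr1, hr2, hr3⟩ := exists_fibre_map f gC K' frC y' hφη.symm
  have hDconn : _root_.IsPreconnected D := by
    have heq : D = r.base '' ((FBase.bcπ (f.fiberToSpecResidueField y') K' ≫ f.fiberι y').base ⁻¹' Z) := by
      ext w
      constructor
      · rintro ⟨hwZ, hwq⟩
        obtain ⟨b, rfl⟩ := hr3 w (hwq.trans (specMap_frac_apply C K' _).symm)
        exact ⟨b, Set.mem_preimage.2 (Set.mem_of_eq_of_mem
          (congrArg (fun k : FBase.bc (f.fiberToSpecResidueField y') K' ⟶ X => k b) hr1).symm hwZ), rfl⟩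
      · rintro ⟨b, hb, rfl⟩
        refine ⟨?_, ?_⟩
        · show p (r b) ∈ Z
          rw [show p (r b) = _ from congrArg (fun k : FBase.bc (f.fiberToSpecResidueField y') K' ⟶ X => k b) hr1]
          exact hb
        · exact (congrArg (fun k : FBase.bc (f.fiberToSpecResidueField y') K' ⟶ Spec (CommRingCat.of C) => k b) hr2).trans
            (specMap_frac_apply C K' _)
    rw [heq]
    exact (hgeo K').image _ r.continuous.continuousOn
  -- the proper piece of the special fibre
  let m := Spec.map (CommRingCat.ofHom (residue C))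
  have hm : ∀ c, m c = closedPoint C := fun c => by
    refine PrimeSpectrum.ext ?_
    show Ideal.comap (residue C) (c : PrimeSpectrum (ResidueField C)).asIdeal = maximalIdeal C
    rw [Subsingleton.elim (α := PrimeSpectrum (ResidueField C)) c ⟨⊥, Ideal.isPrime_bot⟩]
    exact IsLocalRing.ker_residue
  obtain ⟨φs, hφs⟩ := exists_factor (m ≫ gC) y ((congrArg gC (hm _)).trans hgC)
  letI : Algebra (IsLocalRing.ResidueField (Y.presheaf.stalk y)) (ResidueField C) := φs.hom.toAlgebra
  obtain ⟨r', hr'1, hr'2, hr'3⟩ := exists_fibre_map f gC (ResidueField C) m y hφs.symm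
  let π' := FBase.bcπ (f.fiberToSpecResidueField y) (ResidueField C)
  let τ : pullback t₀ π' ⟶ pullback f gC := pullback.snd t₀ π' ≫ r'
  haveI : IsProper (τ ≫ q) := by
    have hbc : IsPullback π' (FBase.bcStr (f.fiberToSpecResidueField y) (ResidueField C)) (f.fiberToSpecResidueField y)
        (Spec.map (CommRingCat.ofHom (algebraMap (IsLocalRing.ResidueField (Y.presheaf.stalk y)) (ResidueField C)))) :=
      IsPullback.of_hasPullback _ _
    have hT : IsPullback (pullback.fst t₀ π') (pullback.snd t₀ π' ≫ FBase.bcStr (f.fiberToSpecResidueField y) (ResidueField C))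
        (t₀ ≫ f.fiberToSpecResidueField y)
        (Spec.map (CommRingCat.ofHom (algebraMap (IsLocalRing.ResidueField (Y.presheaf.stalk y)) (ResidueField C)))) :=
      (IsPullback.of_hasPullback t₀ π').paste_vert hbc
    haveI : IsProper (pullback.snd t₀ π' ≫ FBase.bcStr (f.fiberToSpecResidueField y) (ResidueField C)) :=
      MorphismProperty.of_isPullback (P := @IsProper) hT h2
    haveI : IsClosedImmersion m := IsClosedImmersion.spec_of_surjective _ IsLocalRing.residue_surjective
    have : τ ≫ q = (pullback.snd t₀ π' ≫ FBase.bcStr (f.fiberToSpecResidueField y) (ResidueField C)) ≫ m := by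
      rw [Category.assoc, hr'2, Category.assoc]
    rw [this]
    infer_instance
  obtain ⟨V₀, hV₀o, hV₀⟩ := (f.fiberι y).isEmbedding.isInducing.isOpen_iff.1 hop
  have hmemP : ∀ b, π' b ∈ (f.fiberι y).base ⁻¹' Z ↔ p (r' b) ∈ Z := fun b => by
    rw [show p (r' b) = _ from congrArg (fun k : FBase.bc (f.fiberToSpecResidueField y) (ResidueField C) ⟶ X => k b) hr'1]
    rfl
  have hZV₀ : ∀ x, f x = y → (x ∈ Z ↔ x ∈ V₀) := fun x hx => by
    obtain ⟨a, rfl⟩ : x ∈ Set.range (f.fiberι y) := (f.range_fiberι y).ge hx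
    exact (Set.ext_iff.1 hV₀ a).symm
  have hrangeτ : ∀ w, w ∈ Set.range τ ↔ p w ∈ Z ∧ q w = closedPoint C := by
    intro w
    constructor
    · rintro ⟨t, rfl⟩
      refine ⟨(hmemP _).1 ?_, ?_⟩
      · exact Set.mem_of_eq_of_mem (congrArg (fun k : pullback t₀ π' ⟶ f.fiber y => k t) pullback.condition).symm
          (ht₀.le ⟨pullback.fst t₀ π' t, rfl⟩)
      · exact (congrArg (fun k : FBase.bc (f.fiberToSpecResidueField y) (ResidueField C) ⟶ Spec (CommRingCat.of C) =>
          k (pullback.snd t₀ π' t)) hr'2).trans (hm _)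
    · rintro ⟨hwZ, hwq⟩
      obtain ⟨b, rfl⟩ := hr'3 w (hwq.trans (hm _).symm)
      obtain ⟨t, ht⟩ : b ∈ Set.range (pullback.snd t₀ π') := by
        rw [Scheme.Pullback.range_snd]
        exact ht₀.ge ((hmemP b).2 hwZ)
      exact ⟨t, congrArg r' ht⟩
  let V : (pullback f gC).Opens := p ⁻¹ᵁ ⟨V₀, hV₀o⟩
  have hV : ∀ w, w ∈ Set.range τ ↔ w ∈ V ∧ q w = closedPoint C := fun w => by
    rw [hrangeτ]
    exact and_congr_left fun hw => hZV₀ _ ((hqf w).trans ((congrArg gC hw).trans hgC))
  have hmeet : (closure D ∩ Set.range τ).Nonempty := by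
    by_contra hne
    have hy₂ : y ∈ f.base '' Z := ⟨x₂, hx₂Z, hx₂f⟩
    have hy₁ : y' ∈ f.base '' Z := ⟨x₁, hx₁Z, hx₁f⟩
    have hW : (closure D)ᶜ ∩ (pullback.fst f gC).base ⁻¹' Z =
        (pullback.snd f gC).base ⁻¹' {closedPoint C} ∩ (pullback.fst f gC).base ⁻¹' Z := by
      ext w
      refine ⟨fun hw => ⟨(eq_closedPoint_or_generic (q w)).resolve_right fun h => hw.1 (subset_closure ⟨hw.2, h⟩), hw.2⟩,
        fun hw => ⟨fun hcl => hne ⟨w, hcl, (hrangeτ w).2 ⟨hw.2, hw.1⟩⟩, hw.2⟩⟩
    obtain ⟨U, hUo, hU⟩ := h3 _ gC {closedPoint C}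
      (Set.singleton_subset_iff.2 (show gC (closedPoint C) ∈ f.base '' Z from hgC.symm ▸ hy₂))
      ⟨(closure D)ᶜ, isClosed_closure.isOpen_compl, hW⟩
    have hηU : η ∈ U :=
      (genericPoint_specializes (closedPoint C)).mem_open hUo (hU.ge rfl : closedPoint C ∈ U ∩ _).1
    have h4 : η = closedPoint C := hU.le ⟨hηU, hy₁⟩
    have h5 := congrArg PrimeSpectrum.asIdeal ((genericPoint_spec_eq C).symm.trans h4)
    exact IsDiscreteValuationRing.not_a_field C h5.symm
  -- the rational point
  let a := pullback.lift (Spec.map (CommRingCat.ofHom ψ) ≫ σX) frC (by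
    rw [Category.assoc, hσX, ← Category.assoc, ← Category.assoc, ← Spec.map_comp, ← Spec.map_comp]
    congr 2
    exact CommRingCat.hom_ext (RingHom.ext hψ))
  have haD : a (closedPoint K') ∈ D := by
    refine ⟨?_, (congrArg (fun k : Spec (CommRingCat.of K') ⟶ Spec (CommRingCat.of C) => k (closedPoint K'))
      (pullback.lift_snd _ _ _)).trans (specMap_frac_apply C K' _)⟩
    show p (a (closedPoint K')) ∈ Z
    rw [show p (a (closedPoint K')) = σX (Spec.map (CommRingCat.ofHom ψ) (closedPoint K')) from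
      congrArg (fun k : Spec (CommRingCat.of K') ⟶ X => k (closedPoint K')) (pullback.lift_fst _ _ _),
      show Spec.map (CommRingCat.ofHom ψ) (closedPoint K') = closedPoint K from
        Subsingleton.elim (α := PrimeSpectrum K) _ _]
    exact hσXc
  haveI : HenselianRing C (maximalIdeal C) := inferInstance
  obtain ⟨sC, hsC, hsCa, hsCc⟩ := exists_section_of_connected q τ V hV D (fun w hw => hw.2) hDclosed hDconn hmeet K' a
    (pullback.lift_snd _ _ _) haD
  -- descend to `A`
  let sX := sC ≫ p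
  let x := sX (closedPoint C)
  have hx : f x = y := by
    refine (hqf _).trans ?_
    exact (congrArg gC (congrArg (fun k : Spec (CommRingCat.of C) ⟶ Spec (CommRingCat.of C) => k (closedPoint C)) hsC)).trans hgC
  obtain ⟨χ, -, hχ⟩ := DVRDom.exists_stalk_hom sX (y := x) rfl
  have hfrX : frC ≫ sX = Spec.map (CommRingCat.ofHom ψ) ≫ σX := by
    exact (Category.assoc _ _ _).symm.trans ((congrArg (· ≫ p) hsCa).trans (pullback.lift_fst _ _ _))
  have hsp : σX (closedPoint K) ⤳ x := by
    have h := congrArg (fun k : Spec (CommRingCat.of K') ⟶ X => k (closedPoint K')) hfrX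
    have h' : sX (frC (closedPoint K')) = σX (closedPoint K) := h.trans
      (congrArg σX (Subsingleton.elim (α := PrimeSpectrum K) _ _))
    rw [← h']
    exact ((IsLocalRing.specializes_closedPoint _).map sX.continuous)
  let χ₀ : X.presheaf.stalk x ⟶ CommRingCat.of K :=
    X.presheaf.stalkSpecializes hsp ≫ Scheme.stalkClosedPointTo σX
  have hχ₀ : Spec.map χ₀ ≫ X.fromSpecStalk x = σX := by
    rw [Spec.map_comp, Category.assoc, Scheme.SpecMap_stalkSpecializes_fromSpecStalk,
      Scheme.Spec_stalkClosedPointTo_fromSpecStalk]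
  have hcomm : χ ≫ CommRingCat.ofHom (algebraMap C K') = χ₀ ≫ CommRingCat.ofHom ψ := by
    refine DVRDom.spec_map_eq_iff _ _ ?_
    rw [Spec.map_comp, Category.assoc, hχ, Spec.map_comp, Category.assoc, hχ₀]
    exact hfrX
  have hmem : ∀ t, ∃ a : A, algebraMap A K a = χ₀.hom t := by
    intro t
    have h : algebraMap C K' (χ.hom t) = ψ (χ₀.hom t) := RingHom.congr_fun (congrArg CommRingCat.Hom.hom hcomm) t
    rcases ValuationRing.isInteger_or_isInteger A (χ₀.hom t) with ⟨a, ha⟩ | ⟨a, ha⟩
    · exact ⟨a, ha⟩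
    rcases eq_or_ne (χ₀.hom t) 0 with h0 | h0
    · exact ⟨0, by rw [map_zero, h0]⟩
    have hu : IsUnit (φ a) := by
      refine IsUnit.of_mul_eq_one (χ.hom t) (IsFractionRing.injective C K' ?_)
      rw [map_mul, ← hψ, ha, h, ← map_mul, inv_mul_cancel₀ h0, map_one, map_one]
    obtain ⟨u, rfl⟩ := (isUnit_map_iff φ a).1 hu
    exact ⟨((u⁻¹ : Aˣ) : A), by rw [map_units_inv, ha, inv_inv]⟩
  choose fA hfA using hmem
  let χA : X.presheaf.stalk x ⟶ CommRingCat.of A := CommRingCat.ofHom
    { toFun := fA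
      map_one' := IsFractionRing.injective A K (by rw [hfA, map_one, map_one])
      map_zero' := IsFractionRing.injective A K (by rw [hfA, map_zero, map_zero])
      map_add' := fun a b => IsFractionRing.injective A K (by rw [hfA, map_add, map_add, hfA, hfA])
      map_mul' := fun a b => IsFractionRing.injective A K (by rw [hfA, map_mul, map_mul, hfA, hfA]) }
  have hχA : χA ≫ CommRingCat.ofHom (algebraMap A K) = χ₀ := CommRingCat.hom_ext (RingHom.ext hfA)
  let sA := Spec.map χA ≫ X.fromSpecStalk x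
  have hfrA : Spec.map (CommRingCat.ofHom (algebraMap A K)) ≫ sA = σX := by
    rw [← Category.assoc, ← Spec.map_comp, hχA, hχ₀]
  have hφχ : χA ≫ CommRingCat.ofHom φ = χ := by
    refine CommRingCat.hom_ext (RingHom.ext fun t => IsFractionRing.injective C K' ?_)
    show algebraMap C K' (φ (fA t)) = _
    rw [← hψ, hfA]
    exact (RingHom.congr_fun (congrArg CommRingCat.Hom.hom hcomm) t).symm
  have hsAX : Spec.map (CommRingCat.ofHom φ) ≫ sA = sX := by
    rw [← Category.assoc, ← Spec.map_comp, hφχ, hχ]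
  have hsAc : sA (closedPoint A) = x := by
    rw [← show Spec.map (CommRingCat.ofHom φ) (closedPoint C) = closedPoint A from IsLocalRing.comap_closedPoint φ]
    exact congrArg (fun k : Spec (CommRingCat.of C) ⟶ X => k (closedPoint C)) hsAX
  refine ⟨sA, hom_ext_local (K := K) _ _ ?_ (by rw [← Category.assoc, hfrA, hσX]), hfrA, ?_⟩
  · show f (sA (closedPoint A)) = g (closedPoint A)
    rw [hsAc, hx, hg]
  · rw [hsAc]
    exact ((hrangeτ _).1 hsCc).1

/-- EGA IV 15.7.8. -/
theorem exists_isProper_of_connected [IsLocallyNoetherian Y] (y : Y) (f : X ⟶ Y) [IsSeparated f]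
    [LocallyOfFiniteType f] [QuasiCompact f] (Z : Set X) (hZ : Topology.IsLocallyConstructible Z)
    (h1 : ∀ y' : Y, y' ⤳ y → (∃ x ∈ Z, f.base x = y' ∧ Z ∩ f.base ⁻¹' {y'} = connectedComponentIn (f.base ⁻¹' {y'}) x) ∧
      ∀ (K : Type u) [Field K] [Algebra (IsLocalRing.ResidueField (Y.presheaf.stalk y')) K],
        _root_.IsPreconnected ((FBase.bcπ (f.fiberToSpecResidueField y') K ≫ f.fiberι y').base ⁻¹' Z))
    (hop : IsOpen ((f.fiberι y).base ⁻¹' Z))
    (h2 : IsProper (Scheme.Opens.ι (⟨(f.fiberι y).base ⁻¹' Z, hop⟩ : (f.fiber y).Opens) ≫ f.fiberToSpecResidueField y))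
    (h3 : ∀ (Y' : Scheme.{u}) (h : Y' ⟶ Y) (E : Set Y'), E ⊆ h.base ⁻¹' (f.base '' Z) →
      (∃ W : Set ↥(pullback f h), IsOpen W ∧
        W ∩ (pullback.fst f h).base ⁻¹' Z = (pullback.snd f h).base ⁻¹' E ∩ (pullback.fst f h).base ⁻¹' Z) →
      ∃ V : Set Y', IsOpen V ∧ V ∩ h.base ⁻¹' (f.base '' Z) = E) :
    ∃ U : Y.Opens, y ∈ U ∧ (∀ w ∈ closure Z, f w ∈ U → w ∈ Z) ∧
      IsProper (((Scheme.IdealSheafData.vanishingIdeal (⟨closure Z, isClosed_closure⟩ : Closeds X)).subschemeι ≫ f) ∣_ U) := by
  haveI : IsLocallyNoetherian X := LocallyOfFiniteType.isLocallyNoetherian f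
  let C₀ : Closeds X := ⟨closure Z, isClosed_closure⟩
  let i := (Scheme.IdealSheafData.vanishingIdeal C₀).subschemeι
  have hi : Set.range i = closure Z := by rw [Scheme.IdealSheafData.range_subschemeι]; rfl
  obtain ⟨U, hyU, hU⟩ := exists_isProper_of_dvr (i ≫ f) y fun ξ hξ A _ _ _ K _ _ _ g σ hσ hg hσξ => by
    have hξZ : i ξ ∈ Z := by
      obtain ⟨z, hz, hzξ⟩ := exists_specializes_of_mem_closure hZ (hi.le ⟨ξ, rfl⟩)
      obtain ⟨w, rfl⟩ := hi.ge (subset_closure hz)
      rwa [← hξ w (i.isEmbedding.isInducing.specializes_iff.1 hzξ)]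
    have hσXc : (σ ≫ i) (closedPoint K) = i ξ := congrArg i hσξ
    obtain ⟨sA, hsA, hfrA, -⟩ := exists_section_mem y f Z h1 hop _ (Scheme.Opens.range_ι _) h2 h3 A K g (σ ≫ i)
      ((Category.assoc _ _ _).trans hσ) hg (hσXc ▸ hξZ)
    obtain ⟨l, hl⟩ := exists_lift_closed sA C₀ (by
      rintro _ ⟨t, rfl⟩
      have h0 : sA (genericPoint (Spec (CommRingCat.of A))) ∈ Z := by
        rw [← specMap_frac_apply A K (closedPoint K)]
        rw [show sA (Spec.map (CommRingCat.ofHom (algebraMap A K)) (closedPoint K)) = _ from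
          congrArg (fun k : Spec (CommRingCat.of K) ⟶ X => k (closedPoint K)) hfrA, hσXc]
        exact hξZ
      exact ((genericPoint_specializes t).map sA.continuous).mem_closed isClosed_closure (subset_closure h0))
    exact ⟨l, by rw [← Category.assoc, hl, hsA], by rw [← cancel_mono i, Category.assoc, hl, hfrA]⟩
  haveI := hU
  -- the closure of `Z` adds nothing over the generisations of `y`
  have hclosed : ∀ w ∈ closure Z, f w ⤳ y → w ∈ Z := by
    intro w hw hwy
    obtain ⟨z, hz, hzw⟩ := exists_specializes_of_mem_closure hZ hw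
    obtain ⟨⟨x₁, hx₁Z, hx₁f, hcomp⟩, -⟩ := h1 (f w) hwy
    by_cases hzf : f z = f w
    · exact mem_of_mem_closure_of_fibre f Z (f w) x₁ hx₁f hcomp
        (hzw.mem_closed isClosed_closure (subset_closure ⟨hz, hzf⟩)) rfl
    · obtain ⟨A, _, _, _, m, hm, hmz⟩ := DVRDom.exists_dvr_point hzw (fun h => hzf (congrArg f h))
      -- the piece over `f w` is proper
      have hclop := preimage_comp_clopen f (f w) x₁ hx₁f
      have hpre : (f.fiberι (f w)).base ⁻¹' connectedComponentIn (f.base ⁻¹' {f w}) x₁ = (f.fiberι (f w)).base ⁻¹' Z := by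
        rw [← hcomp]
        ext a
        exact ⟨fun h => h.1, fun h => ⟨h, (f.range_fiberι _).le ⟨a, rfl⟩⟩⟩
      rw [hpre] at hclop
      let J := (Scheme.IdealSheafData.vanishingIdeal
        (⟨(f.fiberι (f w)).base ⁻¹' Z, hclop.1⟩ : Closeds ↥(f.fiber (f w)))).subschemeι
      have hJ : Set.range J = (f.fiberι (f w)).base ⁻¹' Z := by rw [Scheme.IdealSheafData.range_subschemeι]; rfl
      have h2' : IsProper (J ≫ f.fiberToSpecResidueField (f w)) := by
        haveI : AlgebraicGeometry.IsReduced (Scheme.IdealSheafData.vanishingIdeal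
          (⟨(f.fiberι (f w)).base ⁻¹' Z, hclop.1⟩ : Closeds ↥(f.fiber (f w)))).subscheme :=
          Props12.isReduced_subscheme_vanishingIdeal _
        obtain ⟨l, hl⟩ := exists_lift_closed (J ≫ f.fiberι (f w)) C₀ (by
          rintro _ ⟨a, rfl⟩
          exact subset_closure (hJ.le ⟨a, rfl⟩))
        have hyU' : f w ∈ U := hwy.mem_open U.isOpen hyU
        have hsrc : Set.range l ⊆ Set.range ((i ≫ f) ⁻¹ᵁ U).ι := by
          rw [Scheme.Opens.range_ι]
          rintro _ ⟨a, rfl⟩
          show (i ≫ f) (l a) ∈ U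
          rw [show (i ≫ f) (l a) = f (f.fiberι (f w) (J a)) from congrArg f
            (congrArg (fun k : _ ⟶ X => k a) hl),
            show f (f.fiberι (f w) (J a)) = f w from (f.range_fiberι _).le ⟨_, rfl⟩]
          exact hyU'
        let l' := IsOpenImmersion.lift _ l hsrc
        have hl' : l' ≫ ((i ≫ f) ⁻¹ᵁ U).ι = l := IsOpenImmersion.lift_fac _ _ _
        have hsrc' : Set.range (Y.fromSpecResidueField (f w)) ⊆ Set.range U.ι := by
          rw [Scheme.range_fromSpecResidueField, Scheme.Opens.range_ι]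
          exact Set.singleton_subset_iff.2 hyU'
        let c := IsOpenImmersion.lift U.ι _ hsrc'
        have hc : c ≫ U.ι = Y.fromSpecResidueField (f w) := IsOpenImmersion.lift_fac _ _ _
        have hcond : l' ≫ (i ≫ f) ∣_ U = (J ≫ f.fiberToSpecResidueField (f w)) ≫ c := by
          rw [← cancel_mono U.ι, Category.assoc, morphismRestrict_ι, ← Category.assoc, hl', ← Category.assoc, hl,
            Category.assoc, Category.assoc, Category.assoc, hc]
          congr 1
          exact pullback.condition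
        let v := pullback.lift l' (J ≫ f.fiberToSpecResidueField (f w)) hcond
        haveI : IsClosedImmersion v := by
          let b : pullback ((i ≫ f) ∣_ U) c ⟶ f.fiber (f w) :=
            pullback.lift (pullback.fst _ _ ≫ ((i ≫ f) ⁻¹ᵁ U).ι ≫ i) (pullback.snd _ _) (by
              rw [Category.assoc, Category.assoc, ← morphismRestrict_ι, pullback.condition_assoc, hc])
          haveI : IsClosedImmersion (v ≫ b) := by
            rw [show v ≫ b = J by
              apply pullback.hom_ext
              · rw [Category.assoc, pullback.lift_fst, pullback.lift_fst_assoc, ← Category.assoc, hl', hl]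
                rfl
              · rw [Category.assoc, pullback.lift_snd, pullback.lift_snd]
                rfl]
            infer_instance
          haveI : IsSeparated b := by
            haveI : IsSeparated (b ≫ f.fiberToSpecResidueField (f w)) := by
              rw [show b ≫ f.fiberToSpecResidueField (f w) = pullback.snd _ _ from pullback.lift_snd _ _ _]
              infer_instance
            exact IsSeparated.of_comp b (f.fiberToSpecResidueField (f w))
          exact IsClosedImmersion.of_comp v b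
        rw [← show v ≫ pullback.snd _ _ = J ≫ f.fiberToSpecResidueField (f w) from pullback.lift_snd _ _ _]
        infer_instance
      obtain ⟨sA, hsA, hfrA, hsAc⟩ := exists_section_mem (f w) f Z (fun y' hy' => h1 y' (hy'.trans hwy)) hclop.2 J hJ h2'
        h3 A (FractionRing A) (m ≫ f) (Spec.map (CommRingCat.ofHom (algebraMap A (FractionRing A))) ≫ m)
        (Category.assoc _ _ _) (congrArg f hm) (hmz _ ▸ hz)
      haveI := ValExtLib.isDominant_spec_of_injective (CommRingCat.ofHom (algebraMap A (FractionRing A)))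
        (IsFractionRing.injective A (FractionRing A))
      have : sA = m := ext_of_isDominant_of_isSeparated f hsA
        (Spec.map (CommRingCat.ofHom (algebraMap A (FractionRing A)))) hfrA
      rwa [this, hm] at hsAc
  -- shrink
  obtain ⟨V, hV, hyV, -⟩ := exists_isAffineOpen_mem_and_subset (x := y) (U := ⊤) trivial
  haveI : IsAffine V.toScheme := hV
  haveI : AlgebraicGeometry.IsNoetherian V.toScheme := {}
  let fV := f ∣_ V
  haveI : CompactSpace (f ⁻¹ᵁ V).toScheme := QuasiCompact.compactSpace_of_compactSpace fV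
  haveI : AlgebraicGeometry.IsNoetherian (f ⁻¹ᵁ V).toScheme := {}
  let ιV := (f ⁻¹ᵁ V).ι
  have hB : Topology.IsConstructible (fV.base '' (ιV.base ⁻¹' closure Z \ ιV.base ⁻¹' Z)) := by
    refine fV.isConstructible_image (Topology.IsConstructible.sdiff ?_ ?_)
    · exact Topology.isConstructible_compl.1 (IsRetrocompact.isConstructible ((isClosed_closure.preimage ιV.continuous).isOpen_compl)
        (fun _ _ _ => TopologicalSpace.NoetherianSpace.isCompact _))
    · exact (hZ.preimage_of_isOpenEmbedding ιV.isOpenEmbedding).isConstructible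
  let B := fV.base '' (ιV.base ⁻¹' closure Z \ ιV.base ⁻¹' Z)
  have hyB : (⟨y, hyV⟩ : V.toScheme) ∉ closure B := fun h => by
    obtain ⟨b, ⟨w, hw, rfl⟩, hby⟩ := H8ProCons.exists_specializes_of_mem_closure
      (H8ProCons.isClosed_cons_of_isConstructible hB) h
    refine hw.2 (hclosed _ hw.1 ?_)
    have := hby.map V.ι.continuous
    rwa [show V.ι (fV w) = f (ιV w) from
      congrArg (fun k : (f ⁻¹ᵁ V).toScheme ⟶ Y => k w) (morphismRestrict_ι f V)] at this
  let O : Y.Opens := ⟨V.ι.base '' (closure B)ᶜ, V.ι.isOpenEmbedding.isOpenMap _ isClosed_closure.isOpen_compl⟩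
  refine ⟨U ⊓ O, ⟨hyU, ⟨y, hyV⟩, hyB, rfl⟩, fun w hw hwU => ?_, isProper_restrict_of_le (i ≫ f) inf_le_left hU⟩
  obtain ⟨b, hb, hbw⟩ := hwU.2
  by_contra hwZ
  have hwV : w ∈ f ⁻¹ᵁ V := by show f w ∈ V; rw [← hbw]; exact b.2
  refine hb (subset_closure ⟨⟨w, hwV⟩, ⟨hw, hwZ⟩, V.ι.isEmbedding.injective ?_⟩)
  exact (congrArg (fun k : (f ⁻¹ᵁ V).toScheme ⟶ Y => k ⟨w, hwV⟩) (morphismRestrict_ι f V)).trans hbw.symm

end Groth.Agent.EGA43.ProperDvr
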