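import Groth.Agent.ValExtLib.Criterion
import Groth.Agent.ValExtLib.Closure

/-!
# EGA IV 15: properness near a point is tested by discrete valuation rings of the function field
-/

set_option autoImplicit false
set_option backward.isDefEq.respectTransparency false
set_option linter.style.haveILetI false

universe u

namespace Groth.Agent.EGA43.ProperDvr

open CategoryTheory CategoryTheory.Limits AlgebraicGeometry IsLocalRing Groth.Agent

section Algebra

theorem mem_of_adjoin {A K : Type u} [CommRing A] [Field K] [Algebra A K] (R : ValuationSubring K)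
    (hA : ∀ a, algebraMap A K a ∈ R) {s : Set K} (hs : ∀ z ∈ s, z ∈ R) {z : K}
    (hz : z ∈ Algebra.adjoin A s) : z ∈ R := by
  induction hz using Algebra.adjoin_induction with
  | mem z hz => exact hs z hz
  | algebraMap r => exact hA r
  | add a b _ _ ha hb => exact add_mem ha hb
  | mul a b _ _ ha hb => exact mul_mem ha hb

theorem valuation_inv_lt_one_of_notMem {K : Type u} [Field K] (R : ValuationSubring K) {a : K}
    (ha : a ∉ R) : a⁻¹ ∈ R ∧ R.valuation a⁻¹ < 1 := by
  have h1 : 1 < R.valuation a := not_le.1 fun h => ha ((R.valuation_le_one_iff a).1 h)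
  have h2 : R.valuation a⁻¹ < 1 := by rw [map_inv₀]; exact inv_lt_one_of_one_lt₀ h1
  exact ⟨(R.valuation_le_one_iff _).1 h2.le, h2⟩

/-- Primes of `A` containing `I ∩ A` lift to `D` if `A → D / I` is surjective. -/
theorem exists_prime_of_quotient_surjective {A D : Type u} [CommRing A] [CommRing D] [Algebra A D]
    (I : Ideal D) (hs : Function.Surjective ((Ideal.Quotient.mk I).comp (algebraMap A D)))
    (p : Ideal A) [p.IsPrime] (hp : I.comap (algebraMap A D) ≤ p) :
    ∃ q : Ideal D, q.IsPrime ∧ I ≤ q ∧ q.comap (algebraMap A D) = p := by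
  let φ := (Ideal.Quotient.mk I).comp (algebraMap A D)
  have hker : RingHom.ker φ ≤ p := by
    rw [← RingHom.comap_ker, Ideal.mk_ker]; exact hp
  haveI : (p.map φ).IsPrime := Ideal.map_isPrime_of_surjective hs hker
  refine ⟨(p.map φ).comap (Ideal.Quotient.mk I), Ideal.comap_isPrime _ _, fun x hx => ?_, ?_⟩
  · rw [Ideal.mem_comap, Ideal.Quotient.eq_zero_iff_mem.2 hx]; exact zero_mem _
  · rw [Ideal.comap_comap]
    exact (Ideal.comap_map_of_surjective φ hs p).trans (sup_eq_left.2 hker)

variable {A K : Type u} [CommRing A] [Field K] [Algebra A K] {ι : Type u} (g : ι → K)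

/-- The ideal of `A` attached to a choice of elements of `K`. -/
noncomputable def badIdeal : Ideal A :=
  (Ideal.span (Set.range fun i => (⟨g i, Algebra.subset_adjoin ⟨i, rfl⟩⟩ : Algebra.adjoin A (Set.range g)))).comap
    (algebraMap A (Algebra.adjoin A (Set.range g)))

/-- A valuation ring with the `g i` in its maximal ideal is centred in `V(badIdeal g)`. -/
theorem valuation_lt_one_of_mem_badIdeal (R : ValuationSubring K) (hA : ∀ a, algebraMap A K a ∈ R)
    (hg : ∀ i, R.valuation (g i) < 1) {a : A} (ha : a ∈ badIdeal g) :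
    R.valuation (algebraMap A K a) < 1 := by
  have hR : ∀ z : Algebra.adjoin A (Set.range g), (z : K) ∈ R := fun z =>
    mem_of_adjoin R hA (fun z hz => by obtain ⟨i, rfl⟩ := hz; exact (R.valuation_le_one_iff _).1 (hg i).le) z.2
  let ρ : Algebra.adjoin A (Set.range g) →+* R :=
    (Algebra.adjoin A (Set.range g)).toSubring.subtype.codRestrict R.toSubring hR
  have hle : Ideal.span (Set.range fun i =>
      (⟨g i, Algebra.subset_adjoin ⟨i, rfl⟩⟩ : Algebra.adjoin A (Set.range g))) ≤
      (maximalIdeal R).comap ρ := Ideal.span_le.2 fun z hz => by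
    obtain ⟨i, rfl⟩ := hz
    exact (R.valuation_lt_one_iff _).2 (hg i)
  exact (R.valuation_lt_one_iff _).1 (hle ha)

/-- Over a prime containing `badIdeal g` there is a discrete valuation ring with the `g i` in its
maximal ideal. -/
theorem exists_dvr_of_badIdeal_le [IsNoetherianRing A] [Finite ι] {i₀ : ι} (h0 : g i₀ ≠ 0)
    (s : Finset K) (hgen : ∀ G : Subfield K, (∀ a, algebraMap A K a ∈ G) → (↑s : Set K) ⊆ G → ∀ z, z ∈ G)
    (p : Ideal A) [p.IsPrime] (hp : badIdeal g ≤ p) :
    ∃ R : ValuationSubring K, IsDiscreteValuationRing R ∧ (∀ a, algebraMap A K a ∈ R) ∧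
      (∀ a ∈ p, R.valuation (algebraMap A K a) < 1) ∧
      (∀ a ∉ p, R.valuation (algebraMap A K a) = 1) ∧ ∀ i, R.valuation (g i) < 1 := by
  classical
  let D := Algebra.adjoin A (Set.range g)
  let gD : ι → D := fun i => ⟨g i, Algebra.subset_adjoin ⟨i, rfl⟩⟩
  let I : Ideal D := Ideal.span (Set.range gD)
  have hs : Function.Surjective ((Ideal.Quotient.mk I).comp (algebraMap A D)) := by
    intro z
    obtain ⟨⟨z, hz⟩, rfl⟩ := Ideal.Quotient.mk_surjective z
    induction hz using Algebra.adjoin_induction with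
    | mem z hz =>
      obtain ⟨i, rfl⟩ := hz
      exact ⟨0, (map_zero ((Ideal.Quotient.mk I).comp (algebraMap A D))).trans
        ((Ideal.Quotient.eq_zero_iff_mem (I := I)).2 (Ideal.subset_span (Set.mem_range_self (f := gD) i))).symm⟩
    | algebraMap r => exact ⟨r, rfl⟩
    | add a b ha hb iha ihb =>
      obtain ⟨a', ha'⟩ := iha
      obtain ⟨b', hb'⟩ := ihb
      exact ⟨a' + b', by rw [map_add, ha', hb', ← map_add]; rfl⟩
    | mul a b ha hb iha ihb =>
      obtain ⟨a', ha'⟩ := iha
      obtain ⟨b', hb'⟩ := ihb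
      exact ⟨a' * b', by rw [map_mul, ha', hb', ← map_mul]; rfl⟩
  obtain ⟨q, hq, hIq, hqp⟩ := exists_prime_of_quotient_surjective I hs p hp
  haveI : Algebra.FiniteType A D :=
    (Subalgebra.fg_iff_finiteType D).1 (Subalgebra.fg_def.2 ⟨_, Set.finite_range g, rfl⟩)
  haveI : IsNoetherianRing D := Algebra.FiniteType.isNoetherianRing A D
  let B := Localization.AtPrime q
  have hu : ∀ z : q.primeCompl, IsUnit ((algebraMap D K) z) := fun z =>
    isUnit_iff_ne_zero.2 fun h => z.2 (by
      rw [(Subtype.ext h : (z : D) = 0)]; exact zero_mem q)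
  let _ : Algebra B K := (IsLocalization.lift (S := B) hu).toAlgebra
  have hBK : ∀ z : D, algebraMap B K (algebraMap D B z) = z := fun z =>
    IsLocalization.lift_eq hu z
  have hinj : Function.Injective (algebraMap B K) := by
    show Function.Injective (IsLocalization.lift (S := B) hu)
    rw [IsLocalization.lift_injective_iff]
    exact fun a b => ⟨fun h => congrArg Subtype.val ((IsLocalization.injective B q.primeCompl_le_nonZeroDivisors) h),
      fun h => by rw [Subtype.ext h]⟩
  have hm : ∀ z ∈ q, algebraMap D B z ∈ maximalIdeal B := fun z hz =>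
    (IsLocalization.AtPrime.to_map_mem_maximal_iff B q z).2 hz
  have hB : ¬ IsField B := fun hf => by
    have h := hm _ (hIq (Ideal.subset_span ⟨i₀, rfl⟩))
    rw [IsLocalRing.isField_iff_maximalIdeal_eq.1 hf, Submodule.mem_bot] at h
    have := congrArg (algebraMap B K) h
    rw [hBK, map_zero] at this
    exact h0 this
  haveI : IsNoetherianRing B := IsLocalization.isNoetherianRing q.primeCompl B inferInstance
  obtain ⟨R, hR, hRB, hRm⟩ := ValExtLib.exists_dvr_dominating' hB hinj s fun G hG hsG z =>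
    hgen G (fun a => by
      have := hG (algebraMap D B (algebraMap A D a)); rwa [hBK] at this) hsG z
  have hlt : ∀ z : D, z ∈ q → R.valuation (z : K) < 1 := fun z hz => by
    have := hRm _ (hm z hz); rwa [hBK] at this
  refine ⟨R, hR, fun a => ?_, fun a ha => ?_, fun a ha => ?_, fun i => hlt _ (hIq (Ideal.subset_span ⟨i, rfl⟩))⟩
  · have := hRB (algebraMap D B (algebraMap A D a)); rwa [hBK] at this
  · exact hlt (algebraMap A D a) (by rw [← Ideal.mem_comap, hqp]; exact ha)
  · have hz : algebraMap A D a ∉ q := fun h => ha (hqp.le h)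
    obtain ⟨u, hu'⟩ := IsLocalization.map_units B (⟨_, hz⟩ : q.primeCompl)
    have h1 : R.valuation (algebraMap B K (u : B)) * R.valuation (algebraMap B K ((u⁻¹ : Bˣ) : B)) = 1 := by
      rw [← map_mul, ← map_mul, Units.mul_inv, map_one, map_one]
    have e1 : algebraMap B K (u : B) = algebraMap A K a := by rw [hu', hBK]; rfl
    rw [e1] at h1
    refine le_antisymm ((R.valuation_le_one_iff _).2 ?_) (not_lt.1 fun hlt' => ?_)
    · rw [← e1]; exact hRB _
    · exact (mul_lt_one_of_lt_of_le hlt' ((R.valuation_le_one_iff _).2 (hRB _))).ne h1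

end Algebra

section Scheme

variable {X Y : Scheme.{u}} [IsIntegral X] (f : X ⟶ Y)

theorem exists_centre_of_proper [IsSeparated f] {y : Y} (hξ : f (genericPoint X) ⤳ y) (U : Y.Opens)
    (hy : y ∈ U) (hU : IsProper (f ∣_ U)) (R : ValuationSubring X.functionField)
    (h1 : ∀ r, (Y.presheaf.stalkSpecializes hξ ≫ f.stalkMap (genericPoint X)).hom r ∈ R)
    (h2 : ∀ r ∈ maximalIdeal (Y.presheaf.stalk y),
      R.valuation ((Y.presheaf.stalkSpecializes hξ ≫ f.stalkMap (genericPoint X)).hom r) < 1) :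
    ∃ x : X, f x = y ∧ (∀ a : X.presheaf.stalk x, algebraMap (X.presheaf.stalk x) X.functionField a ∈ R) ∧
      ∀ a ∈ maximalIdeal (X.presheaf.stalk x),
        R.valuation (algebraMap (X.presheaf.stalk x) X.functionField a) < 1 := by
  obtain ⟨φ, hφy, hφ⟩ := ValExtLib.exists_base_of_dominated f R y hξ h1 h2
  have hi : Set.range (X.fromSpecStalk (genericPoint X)) ⊆ Set.range (f ⁻¹ᵁ U).ι := by
    rw [Scheme.range_fromSpecStalk, Scheme.Opens.range_ι]
    intro z hz
    exact (hz.map f.continuous).mem_open U.isOpen (hξ.mem_open U.isOpen hy)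
  have hφr : Set.range φ ⊆ Set.range U.ι := by
    rw [Scheme.Opens.range_ι]
    rintro _ ⟨z, rfl⟩
    refine ((IsLocalRing.specializes_closedPoint z).map φ.continuous).mem_open U.isOpen ?_
    rw [hφy]; exact hy
  let S : ValuativeCommSq (f ∣_ U) :=
    { R := R, K := X.functionField, i₁ := IsOpenImmersion.lift (f ⁻¹ᵁ U).ι _ hi
      i₂ := IsOpenImmersion.lift U.ι φ hφr
      commSq := ⟨by
        rw [← cancel_mono U.ι, Category.assoc, Category.assoc, morphismRestrict_ι, IsOpenImmersion.lift_fac,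
          IsOpenImmersion.lift_fac_assoc]
        exact hφ.symm⟩ }
  have hE : ValuativeCriterion.Existence (f ∣_ U) :=
    ((iff_of_eq (congrFun (congrFun (congrFun UniversallyClosed.eq_valuativeCriterion _) _) (f ∣_ U))).mp
      inferInstance).1
  obtain ⟨l, hl, hl'⟩ := (hE S).exists_lift.some
  let L : Spec (CommRingCat.of R) ⟶ X := l ≫ (f ⁻¹ᵁ U).ι
  have hgen : Spec.map (CommRingCat.ofHom R.subtype) ≫ L = X.fromSpecStalk (genericPoint X) := by
    calc Spec.map (CommRingCat.ofHom R.subtype) ≫ L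
        = (Spec.map (CommRingCat.ofHom R.subtype) ≫ l) ≫ (f ⁻¹ᵁ U).ι := (Category.assoc _ _ _).symm
      _ = IsOpenImmersion.lift (f ⁻¹ᵁ U).ι _ hi ≫ (f ⁻¹ᵁ U).ι := congrArg (· ≫ (f ⁻¹ᵁ U).ι) hl
      _ = X.fromSpecStalk (genericPoint X) := IsOpenImmersion.lift_fac _ _ _
  refine ⟨L (closedPoint R), ?_, ValExtLib.exists_dominated_of_spec R L hgen⟩
  have hL : L ≫ f = φ := by
    calc L ≫ f = l ≫ (f ∣_ U) ≫ U.ι := by rw [morphismRestrict_ι, Category.assoc]
      _ = (l ≫ (f ∣_ U)) ≫ U.ι := (Category.assoc _ _ _).symm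
      _ = IsOpenImmersion.lift U.ι φ hφr ≫ U.ι := congrArg (· ≫ U.ι) hl'
      _ = φ := IsOpenImmersion.lift_fac _ _ _
  rw [← Scheme.Hom.comp_apply, hL, hφy]

variable {V : Y.Opens} (hV : IsAffineOpen V)

/-- `Γ(Y, V) → K`. -/
noncomputable def baseToFun (hξV : f (genericPoint X) ∈ V) : Γ(Y, V) →+* X.functionField :=
  (Y.presheaf.germ V (f (genericPoint X)) hξV ≫ f.stalkMap (genericPoint X)).hom

theorem baseToFun_eq (hξV : f (genericPoint X) ∈ V) {y : Y} (hy : y ∈ V)
    (hξ : f (genericPoint X) ⤳ y) (a : Γ(Y, V)) :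
    baseToFun f hξV a = (Y.presheaf.stalkSpecializes hξ ≫ f.stalkMap (genericPoint X)).hom
      (Y.presheaf.germ V y hy a) := by
  show (f.stalkMap (genericPoint X)).hom (Y.presheaf.germ V _ hξV a) =
    (f.stalkMap (genericPoint X)).hom (Y.presheaf.stalkSpecializes hξ (Y.presheaf.germ V y hy a))
  rw [← ConcreteCategory.comp_apply (Y.presheaf.germ V y hy), TopCat.Presheaf.germ_stalkSpecializes]

theorem baseToFun_appLE (hξV : f (genericPoint X) ∈ V) {U : X.Opens} [Nonempty U] (e : U ≤ f ⁻¹ᵁ V)
    (a : Γ(Y, V)) : X.germToFunctionField U ((f.appLE V U e).hom a) = baseToFun f hξV a := by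
  have hU : genericPoint X ∈ U :=
    ((genericPoint_spec X).mem_open_set_iff U.isOpen).2 (by simpa using (inferInstance : Nonempty U))
  show X.presheaf.germ U (genericPoint X) hU ((f.appLE V U e).hom a) =
    (Y.presheaf.germ V _ hξV ≫ f.stalkMap (genericPoint X)).hom a
  rw [Scheme.Hom.germ_stalkMap, Scheme.Hom.appLE]
  show (f.app V ≫ X.presheaf.map (homOfLE e).op ≫ X.presheaf.germ U (genericPoint X) hU).hom a = _
  rw [TopCat.Presheaf.germ_res]

end Scheme

end Groth.Agent.EGA43.ProperDvr
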