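import Groth.Agent.EGA43.ProperDvr.Rational
import Groth.Agent.Et18.ProperClopen.Apps
import Groth.Agent.Et18.ChowSep

/-!
# EGA IV 15.7.8 over a complete discrete valuation ring: a connected generic piece meeting a proper
open and closed piece of the special fibre has sections through its rational points
-/

set_option autoImplicit false
set_option backward.isDefEq.respectTransparency false
set_option linter.style.haveILetI false

universe u

namespace Groth.Agent.EGA43.ProperDvr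

open CategoryTheory CategoryTheory.Limits AlgebraicGeometry IsLocalRing TopologicalSpace Groth.Agent

variable {A : Type u} [CommRing A] [IsDomain A] [IsDiscreteValuationRing A]
  [HenselianRing A (maximalIdeal A)] {X : Scheme.{u}} (q : X ⟶ Spec (CommRingCat.of A)) [IsSeparated q]
  [LocallyOfFiniteType q] [QuasiCompact q] {T : Scheme.{u}} (τ : T ⟶ X) [IsProper (τ ≫ q)]

omit [IsDiscreteValuationRing A] [HenselianRing A (maximalIdeal A)] in
theorem specializes_closed [IsLocalRing A] {C : Set (PrimeSpectrum A)} (hC : IsClosed C) (hne : C.Nonempty) :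
    closedPoint A ∈ C :=
  (IsLocalRing.specializes_closedPoint hne.some).mem_closed hC hne.some_mem

/-- An integral piece meeting the proper part of the special fibre is proper, and its special fibre
lies in that part. -/
theorem isProper_of_meets {Z : Scheme.{u}} [IsIntegral Z] (i : Z ⟶ X) [IsClosedImmersion i]
    (V : X.Opens) (hV : ∀ x, x ∈ Set.range τ ↔ x ∈ V ∧ q x = closedPoint A) (hmeet : ∃ z, i z ∈ Set.range τ) :
    IsProper (i ≫ q) ∧ ∀ z, q (i z) = closedPoint A → i z ∈ Set.range τ := by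
  obtain ⟨Z', Zb, π, j, gb, U₀, _, hπ, hU₀, hiso, _, _, hgb, hw⟩ := Et18.ChowSep.exists_compactification (i ≫ q)
  haveI := hπ
  haveI := hgb
  haveI := hiso
  have hsurj : Function.Surjective π := by
    have hgen : genericPoint Z ∈ U₀ :=
      ((genericPoint_spec Z).mem_open_set_iff U₀.isOpen).2 (by
        obtain ⟨z, hz⟩ := hU₀
        exact ⟨z, trivial, hz⟩)
    obtain ⟨v, hv⟩ : (⟨genericPoint Z, hgen⟩ : U₀.toScheme) ∈ Set.range (π ∣_ U₀) :=
      (asIso (π ∣_ U₀)).hom.homeomorph.surjective _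
    have hmem : genericPoint Z ∈ Set.range π := by
      refine ⟨(π ⁻¹ᵁ U₀).ι v, ?_⟩
      exact (congrArg (fun ψ : (π ⁻¹ᵁ U₀).toScheme ⟶ Z => ψ v) (morphismRestrict_ι π U₀)).symm.trans
        (congrArg U₀.ι hv)
    intro z
    exact ((genericPoint_specializes z).mem_closed π.isClosedMap.isClosed_range hmem)
  let ρ := π ≫ i
  -- the part of the boundary-free special fibre
  let m : pullback τ ρ ⟶ Zb := pullback.snd τ ρ ≫ j
  haveI : IsProper (m ≫ gb) := by
    have : m ≫ gb = pullback.fst τ ρ ≫ τ ≫ q := by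
      rw [Category.assoc, hw, pullback.condition_assoc]
      simp only [ρ, Category.assoc]
    rw [this]
    haveI : IsProper (pullback.fst τ ρ) := MorphismProperty.pullback_fst (P := @IsProper) _ _ inferInstance
    infer_instance
  haveI : IsProper m := IsProper.of_comp m gb
  let A₁ : Set Zb := Set.range m
  have hA₁ : IsClosed A₁ := m.isClosedMap.isClosed_range
  have hA₁' : ∀ z', j z' ∈ A₁ ↔ ρ z' ∈ Set.range τ := by
    intro z'
    constructor
    · rintro ⟨t, ht⟩
      obtain rfl : pullback.snd τ ρ t = z' := j.isOpenEmbedding.injective ht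
      exact ⟨pullback.fst τ ρ t, congrArg (fun ψ : pullback τ ρ ⟶ X => ψ t) pullback.condition⟩
    · intro h
      obtain ⟨t, ht⟩ : z' ∈ Set.range (pullback.snd τ ρ) := by rw [Scheme.Pullback.range_snd]; exact h
      exact ⟨t, congrArg j ht⟩
  have hgbj : ∀ z', gb (j z') = q (ρ z') := fun z' =>
    congrArg (fun ψ : Z' ⟶ Spec (CommRingCat.of A) => ψ z') (hw.trans (Category.assoc _ _ _).symm)
  let S : Set Zb := gb.base ⁻¹' {closedPoint A}
  have hSconn : _root_.IsPreconnected S := by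
    have h := (Et18.ProperClopen.isConnected_inter_closure (maximalIdeal A) gb (genericPoint Zb)).2
    rwa [genericPoint_closure, Set.inter_univ,
      show (PrimeSpectrum.zeroLocus (maximalIdeal A : Set A) : Set (PrimeSpectrum A)) = {closedPoint A} from by
        ext p
        rw [PrimeSpectrum.mem_zeroLocus, Set.mem_singleton_iff, SetLike.coe_subset_coe]
        exact ⟨fun h => PrimeSpectrum.ext ((maximalIdeal.isMaximal A).eq_of_le p.isPrime.ne_top h).symm,
          fun h => h ▸ le_rfl⟩] at h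
  let u : Set Zb := j '' (ρ.base ⁻¹' V)
  have hu : IsOpen u := j.isOpenEmbedding.isOpenMap _ (V.isOpen.preimage ρ.continuous)
  obtain ⟨z₀, hz₀⟩ := hmeet
  obtain ⟨z₁, rfl⟩ := hsurj z₀
  have hSu : ∀ b ∈ S, b ∈ A₁ := by
    intro b hb
    by_contra hbA
    have hcov : S ⊆ u ∪ A₁ᶜ := fun c _ => by
      by_cases hcA : c ∈ A₁
      · obtain ⟨t, rfl⟩ := hcA
        exact Or.inl ⟨pullback.snd τ ρ t, ((hV _).1 ((hA₁' _).1 ⟨t, rfl⟩)).1, rfl⟩
      · exact Or.inr hcA
    obtain ⟨c, hcS, ⟨z', hz', rfl⟩, hcA⟩ := hSconn u A₁ᶜ hu hA₁.isOpen_compl hcov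
      ⟨j z₁, (hgbj z₁).trans ((hV _).1 hz₀).2, ⟨z₁, ((hV _).1 hz₀).1, rfl⟩⟩ ⟨b, hb, hbA⟩
    exact hcA ((hA₁' z').2 ((hV _).2 ⟨hz', (hgbj z').symm.trans hcS⟩))
  have hjsurj : Function.Surjective j := by
    intro b
    by_contra hb
    obtain ⟨b', hb', hb's⟩ := specializes_closed (gb.isClosedMap _ j.isOpenEmbedding.isOpen_range.isClosed_compl)
      ⟨gb b, b, hb, rfl⟩
    obtain ⟨t, ht⟩ := hSu b' hb's
    exact hb' ⟨pullback.snd τ ρ t, ht⟩
  refine ⟨?_, fun z hz => ?_⟩
  · haveI : Surjective j := ⟨hjsurj⟩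
    haveI : Epi j.base := (TopCat.epi_iff_surjective _).2 hjsurj
    haveI : IsIso j := IsOpenImmersion.isIso j
    haveI : IsProper (π ≫ i ≫ q) := by rw [← hw]; infer_instance
    haveI : Surjective π := ⟨hsurj⟩
    haveI : UniversallyClosed (i ≫ q) := UniversallyClosed.of_comp_surjective π (i ≫ q)
    exact {}
  · obtain ⟨z', rfl⟩ := hsurj z
    exact (hA₁' z').1 (hSu _ ((hgbj z').trans hz))

/-- Sections through the rational points. -/
theorem exists_section_of_connected (V : X.Opens)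
    (hV : ∀ x, x ∈ Set.range τ ↔ x ∈ V ∧ q x = closedPoint A) (D : Set X)
    (hDη : ∀ x ∈ D, q x = genericPoint (Spec (CommRingCat.of A)))
    (hDc : ∀ x ∈ closure D, q x = genericPoint (Spec (CommRingCat.of A)) → x ∈ D)
    (hconn : _root_.IsPreconnected D) (hmeet : (closure D ∩ Set.range τ).Nonempty)
    (K : Type u) [Field K] [Algebra A K] [IsFractionRing A K] (a : Spec (CommRingCat.of K) ⟶ X)
    (ha : a ≫ q = Spec.map (CommRingCat.ofHom (algebraMap A K))) (haD : a (closedPoint K) ∈ D) :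
    ∃ s : Spec (CommRingCat.of A) ⟶ X, s ≫ q = 𝟙 _ ∧ Spec.map (CommRingCat.ofHom (algebraMap A K)) ≫ s = a ∧
      s (closedPoint A) ∈ Set.range τ := by
  haveI : IsLocallyNoetherian X := LocallyOfFiniteType.isLocallyNoetherian q
  haveI : CompactSpace X := QuasiCompact.compactSpace_of_compactSpace q
  haveI : IsNoetherian X := {}
  set η := genericPoint (Spec (CommRingCat.of A)) with hη
  obtain ⟨S, hSf, hScl, hSirr, hS⟩ :=
    NoetherianSpace.exists_finite_set_isClosed_irreducible (isClosed_closure (s := D))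
  let F : Set X := {ξ | ξ ∈ D ∧ ∃ C ∈ S, IsGenericPoint ξ C}
  have hF : F.Finite := by
    refine Set.Finite.of_finite_image (f := fun ξ => closure {ξ}) (hSf.subset ?_) ?_
    · rintro _ ⟨ξ, ⟨-, C, hC, hgen⟩, rfl⟩
      show closure {ξ} ∈ S
      rw [hgen.def]
      exact hC
    · intro a ha b hb hab
      exact IsGenericPoint.eq (S := closure {a}) isGenericPoint_closure
        (by rw [show closure {a} = closure {b} from hab]; exact isGenericPoint_closure)
  have hcov : ∀ w ∈ D, ∃ ξ ∈ F, ξ ⤳ w := by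
    intro w hw
    obtain ⟨C, hC, hwC⟩ := Set.mem_sUnion.1 (hS.le (subset_closure hw))
    have hgen := (hSirr C hC).isGenericPoint_genericPoint (hScl C hC)
    have hξcl : (hSirr C hC).genericPoint ∈ closure D := hS.ge ⟨C, hC, hgen.mem⟩
    have hq : q (hSirr C hC).genericPoint = η := by
      have h := (hgen.specializes hwC).map q.continuous
      rw [hDη w hw] at h
      exact h.antisymm (genericPoint_specializes _) |>.eq
    exact ⟨_, ⟨hDc _ hξcl hq, C, hC, hgen⟩, hgen.specializes hwC⟩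
  let good : X → Prop := fun ξ => ∃ w, ξ ⤳ w ∧ w ∈ Set.range τ
  have hgood : ∀ ξ, good ξ → ∀ (w : X), ξ ⤳ w → q w = closedPoint A → w ∈ Set.range τ := by
    rintro ξ ⟨w₀, hw₀, hw₀P⟩ w hw hqw
    obtain ⟨Z, _, i, _, hi, hr, -⟩ := exists_integral_closure ξ
    obtain ⟨z₀, rfl⟩ := hr w₀ hw₀
    obtain ⟨z, rfl⟩ := hr w hw
    exact (isProper_of_meets q τ i V hV ⟨z₀, hw₀P⟩).2 z hqw
  let G : Set X := ⋃ ξ ∈ {ξ ∈ F | good ξ}, closure {ξ}
  let B : Set X := ⋃ ξ ∈ {ξ ∈ F | ¬ good ξ}, closure {ξ}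
  have hGc : IsClosed G := (hF.subset fun _ h => h.1).isClosed_biUnion fun _ _ => isClosed_closure
  have hBc : IsClosed B := (hF.subset fun _ h => h.1).isClosed_biUnion fun _ _ => isClosed_closure
  have hDGB : D ⊆ G ∪ B := fun w hw => by
    obtain ⟨ξ, hξ, hξw⟩ := hcov w hw
    by_cases h : good ξ
    · exact Or.inl (Set.mem_biUnion ⟨hξ, h⟩ hξw.mem_closure)
    · exact Or.inr (Set.mem_biUnion ⟨hξ, h⟩ hξw.mem_closure)
  have hDG : (D ∩ G).Nonempty := by
    obtain ⟨w, hw, hwP⟩ := hmeet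
    rcases closure_minimal hDGB (hGc.union hBc) hw with h | h
    · obtain ⟨ξ, hξ, hξw⟩ := Set.mem_iUnion₂.1 h
      exact ⟨ξ, hξ.1.1, Set.mem_biUnion hξ (subset_closure rfl)⟩
    · obtain ⟨ξ, hξ, hξw⟩ := Set.mem_iUnion₂.1 h
      exact absurd ⟨w, specializes_iff_mem_closure.2 hξw, hwP⟩ hξ.2
  have hDB : ¬ (D ∩ B).Nonempty := by
    intro hne
    obtain ⟨p, hpD, hpG, hpB⟩ := isPreconnected_closed_iff.1 hconn G B hGc hBc hDGB hDG hne
    obtain ⟨ξ, hξ, hξp⟩ := Set.mem_iUnion₂.1 hpG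
    obtain ⟨ξ', hξ', hξ'p⟩ := Set.mem_iUnion₂.1 hpB
    obtain ⟨Z, _, i, _, hi, hr, -⟩ := exists_integral_closure ξ
    obtain ⟨z₀, hz₀⟩ := hr p (specializes_iff_mem_closure.2 hξp)
    obtain ⟨w₁, hw₁, hw₁P⟩ := hξ.2
    obtain ⟨z₁, rfl⟩ := hr w₁ hw₁
    obtain ⟨hprop, -⟩ := isProper_of_meets q τ i V hV ⟨z₁, hw₁P⟩
    obtain ⟨z, hz, hzs⟩ := specializes_closed ((i ≫ q).isClosedMap _ (isClosed_closure (s := {z₀})))
      ⟨(i ≫ q) z₀, z₀, subset_closure rfl, rfl⟩
    have hpz : p ⤳ i z := hz₀ ▸ (specializes_iff_mem_closure.2 hz).map i.continuous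
    refine hξ'.2 ⟨i z, (specializes_iff_mem_closure.2 hξ'p).trans hpz, ?_⟩
    exact hgood ξ hξ.2 _ ((specializes_iff_mem_closure.2 hξp).trans hpz) hzs
  obtain ⟨ξ, hξ, hξa⟩ := hcov _ haD
  have hξgood : good ξ := by
    by_contra h
    exact hDB ⟨_, haD, Set.mem_biUnion ⟨hξ, h⟩ hξa.mem_closure⟩
  obtain ⟨Z, _, i, _, hi, hr, hlift⟩ := exists_integral_closure ξ
  obtain ⟨w₀, hw₀, hw₀P⟩ := hξgood
  obtain ⟨z₀, rfl⟩ := hr w₀ hw₀
  obtain ⟨hprop, hin⟩ := isProper_of_meets q τ i V hV ⟨z₀, hw₀P⟩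
  obtain ⟨l, hl⟩ := hlift a (range_subset_of_mem a hξa.mem_closure)
  haveI := hprop
  let Sq : ValuativeCommSq (i ≫ q) := ValuativeCommSq.mk A K l (𝟙 _)
    ⟨by rw [Category.comp_id, ← Category.assoc, hl, ha]⟩
  obtain ⟨⟨m⟩⟩ := (UniversallyClosed.eq_valuativeCriterion.le _ _ _
    (inferInstanceAs (UniversallyClosed (i ≫ q)))).1 Sq
  exact ⟨m.l ≫ i, by rw [Category.assoc]; exact m.fac_right, by rw [← Category.assoc]; exact (congrArg (· ≫ i) m.fac_left).trans hl,
    hin (m.l (closedPoint A)) (congrArg (fun k : Spec (CommRingCat.of A) ⟶ Spec (CommRingCat.of A) => k (closedPoint A)) m.fac_right)⟩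

end Groth.Agent.EGA43.ProperDvr
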