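import Groth.Agent.EGA43.ProperDvr.Basic

/-!
# EGA IV 15: properness near a point from discrete valuation rings of the function field
-/

set_option autoImplicit false
set_option backward.isDefEq.respectTransparency false
set_option linter.style.haveILetI false

universe u

namespace Groth.Agent.EGA43.ProperDvr

open CategoryTheory CategoryTheory.Limits AlgebraicGeometry IsLocalRing TopologicalSpace Groth.Agent

variable {X Y : Scheme.{u}} [IsIntegral X] (f : X ⟶ Y) {V : Y.Opens} (hV : IsAffineOpen V)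

/-- The prime of `Γ(Y, V)` over which a valuation ring lies is the image of any of its centres in an
affine open of `f ⁻¹ V`. -/
theorem exists_centre_of_mem (hξV : f (genericPoint X) ∈ V) {y' : Y} (hy' : y' ∈ V)
    {U : X.Opens} (hU : IsAffineOpen U) [Nonempty U] (e : U ≤ f ⁻¹ᵁ V)
    (R : ValuationSubring X.functionField) (hR : ∀ b : Γ(X, U), X.germToFunctionField U b ∈ R)
    (hp : ∀ a, R.valuation (baseToFun f hξV a) < 1 ↔ a ∈ (hV.primeIdealOf ⟨y', hy'⟩).asIdeal) :
    ∃ x : X, f x = y' ∧ ∀ a : X.presheaf.stalk x, algebraMap (X.presheaf.stalk x) X.functionField a ∈ R := by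
  let ρ : Γ(X, U) →+* R := (X.germToFunctionField U).hom.codRestrict R.toSubring hR
  let Q : PrimeSpectrum Γ(X, U) := ⟨(maximalIdeal R).comap ρ, Ideal.comap_isPrime _ _⟩
  obtain ⟨x, hx, hxQ⟩ : ∃ (x : X) (hx : x ∈ U), hU.primeIdealOf ⟨x, hx⟩ = Q := by
    refine ⟨hU.fromSpec Q, hU.range_fromSpec.le ⟨Q, rfl⟩, ?_⟩
    exact hU.fromSpec.isOpenEmbedding.injective (hU.fromSpec_primeIdealOf _)
  refine ⟨x, ?_, fun a => ?_⟩
  · have h1 : (hV.primeIdealOf ⟨f x, e hx⟩).asIdeal = (hV.primeIdealOf ⟨y', hy'⟩).asIdeal := by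
      rw [← congrArg PrimeSpectrum.asIdeal (IsAffineOpen.comap_primeIdealOf_appLE V hV U hU e hx), hxQ]
      ext a
      rw [← hp a]
      show ρ ((f.appLE V U e).hom a) ∈ maximalIdeal R ↔ _
      rw [R.valuation_lt_one_iff]
      show R.valuation (X.germToFunctionField U ((f.appLE V U e).hom a)) < 1 ↔ _
      rw [baseToFun_appLE f hξV e]
    have h2 := congrArg hV.fromSpec (PrimeSpectrum.ext h1)
    rwa [hV.fromSpec_primeIdealOf, hV.fromSpec_primeIdealOf] at h2
  · let _ := (X.presheaf.germ U x hx).hom.toAlgebra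
    have := hU.isLocalization_stalk ⟨x, hx⟩
    obtain ⟨⟨b, t⟩, h⟩ := IsLocalization.surj (hU.primeIdealOf ⟨x, hx⟩).asIdeal.primeCompl a
    have hb : ∀ c : Γ(X, U), algebraMap (X.presheaf.stalk x) X.functionField (X.presheaf.germ U x hx c) =
        X.germToFunctionField U c := fun c => Scheme.algebraMap_germ_eq_germToFunctionField ..
    have h3 : algebraMap (X.presheaf.stalk x) X.functionField a * X.germToFunctionField U (t : Γ(X, U)) =
        X.germToFunctionField U b := by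
      rw [← hb, ← hb, ← map_mul]; exact congrArg _ h
    have ht : ρ (t : Γ(X, U)) ∉ maximalIdeal R := fun hm => t.2 ((congrArg PrimeSpectrum.asIdeal hxQ).ge hm)
    obtain ⟨u, hu⟩ := IsLocalRing.notMem_maximalIdeal.1 ht
    have h4 : algebraMap (X.presheaf.stalk x) X.functionField a =
        ((ρ b * ((u⁻¹ : Rˣ) : R) : R) : X.functionField) := by
      have h5 : ((ρ (t : Γ(X, U)) : R) : X.functionField) * (((u⁻¹ : Rˣ) : R) : X.functionField) = 1 := by
        rw [← hu]; exact congrArg Subtype.val u.mul_inv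
      show _ = X.germToFunctionField U b * (((u⁻¹ : Rˣ) : R) : X.functionField)
      rw [← h3, mul_assoc]
      exact (mul_one _).symm.trans (congrArg _ h5.symm)
    rw [h4]
    exact (ρ b * ((u⁻¹ : Rˣ) : R) : R).2

variable [IsLocallyNoetherian Y] [IsSeparated f] [LocallyOfFiniteType f] [QuasiCompact f]

/-- If every discrete valuation ring dominating `y` has a centre over `y`, every valuation ring lying
over a point of a neighbourhood of `y` has a centre. -/
theorem exists_nhd_centre {y : Y} (hy : y ∈ V) (hV : IsAffineOpen V) (hξ : f (genericPoint X) ⤳ y)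
    (H : ∀ R : ValuationSubring X.functionField, IsDiscreteValuationRing R →
      (∀ r, (Y.presheaf.stalkSpecializes hξ ≫ f.stalkMap (genericPoint X)).hom r ∈ R) →
      (∀ r ∈ maximalIdeal (Y.presheaf.stalk y),
        R.valuation ((Y.presheaf.stalkSpecializes hξ ≫ f.stalkMap (genericPoint X)).hom r) < 1) →
      ∃ x : X, f x = y ∧ ∀ a : X.presheaf.stalk x, algebraMap (X.presheaf.stalk x) X.functionField a ∈ R) :
    ∃ W : Y.Opens, IsAffineOpen W ∧ y ∈ W ∧ f (genericPoint X) ∈ W ∧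
      ∀ (R : ValuationSubring X.functionField) (y' : Y) (_ : y' ∈ W) (hη : f (genericPoint X) ⤳ y'),
        (∀ r, (Y.presheaf.stalkSpecializes hη ≫ f.stalkMap (genericPoint X)).hom r ∈ R) →
        (∀ r ∈ maximalIdeal (Y.presheaf.stalk y'),
          R.valuation ((Y.presheaf.stalkSpecializes hη ≫ f.stalkMap (genericPoint X)).hom r) < 1) →
        ∃ x : X, f x = y' ∧ ∀ a : X.presheaf.stalk x, algebraMap (X.presheaf.stalk x) X.functionField a ∈ R := by
  classical
  have hξV : f (genericPoint X) ∈ V := hξ.mem_open V.isOpen hy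
  haveI : IsNoetherianRing Γ(Y, V) := IsLocallyNoetherian.component_noetherian ⟨V, hV⟩
  let _ : Algebra Γ(Y, V) X.functionField := (baseToFun f hξV).toAlgebra
  have hloc : ∀ z ∈ f ⁻¹ᵁ V, ∃ U : X.Opens, IsAffineOpen U ∧ z ∈ U ∧ U ≤ f ⁻¹ᵁ V := fun z hz => by
    obtain ⟨U, hU, hzU, hle⟩ := exists_isAffineOpen_mem_and_subset (x := z) (U := f ⁻¹ᵁ V) hz
    exact ⟨U, hU, hzU, hle⟩
  choose Uf hUf hzUf hUle using hloc
  obtain ⟨t, ht⟩ := (QuasiCompact.isCompact_preimage (f := f) V.1 V.isOpen hV.isCompact).elim_finite_subcover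
    (fun z : {z // z ∈ f ⁻¹ᵁ V} => (Uf z.1 z.2 : Set X)) (fun z => (Uf z.1 z.2).isOpen)
    (fun z hz => Set.mem_iUnion.2 ⟨⟨z, hz⟩, hzUf z hz⟩)
  have hne : ∀ i : t, Nonempty (Uf i.1.1 i.1.2) := fun i => ⟨⟨i.1.1, hzUf i.1.1 i.1.2⟩⟩
  have hgens : ∀ i : t, ∃ s : Finset X.functionField, (∀ z ∈ s, z ≠ 0) ∧
      (∀ (b : Γ(X, Uf i.1.1 i.1.2)), (have := hne i; X.germToFunctionField (Uf i.1.1 i.1.2) b) ∈
        Algebra.adjoin Γ(Y, V) (s : Set X.functionField)) ∧
      ∀ z ∈ s, ∃ b : Γ(X, Uf i.1.1 i.1.2), (have := hne i; X.germToFunctionField (Uf i.1.1 i.1.2) b) = z := fun i => by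
    have := hne i
    let U := Uf i.1.1 i.1.2
    let _ := (f.appLE V U (hUle i.1.1 i.1.2)).hom.toAlgebra
    haveI : Algebra.FiniteType Γ(Y, V) Γ(X, U) := f.finiteType_appLE hV (hUf i.1.1 i.1.2) _
    let ψ : Γ(X, U) →ₐ[Γ(Y, V)] X.functionField :=
      { (X.germToFunctionField U).hom with commutes' := fun a => baseToFun_appLE f hξV _ a }
    obtain ⟨s₀, hs₀⟩ := ‹Algebra.FiniteType Γ(Y, V) Γ(X, U)›.out
    refine ⟨(s₀.image ψ).filter (· ≠ 0), fun z hz => (Finset.mem_filter.1 hz).2, fun b => ?_, fun z hz => ?_⟩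
    · have hb : ψ b ∈ (Algebra.adjoin Γ(Y, V) (s₀ : Set Γ(X, U))).map ψ := ⟨b, hs₀ ▸ Algebra.mem_top, rfl⟩
      rw [AlgHom.map_adjoin] at hb
      refine (Algebra.adjoin_le ?_ : Algebra.adjoin Γ(Y, V) (ψ '' (s₀ : Set Γ(X, U))) ≤ _) hb
      rintro z ⟨w, hw, rfl⟩
      by_cases h0 : ψ w = 0
      · rw [h0]; exact zero_mem _
      · exact Algebra.subset_adjoin (Finset.mem_filter.2 ⟨Finset.mem_image_of_mem ψ hw, h0⟩)
    · obtain ⟨w, -, hw⟩ := Finset.mem_image.1 (Finset.mem_filter.1 hz).1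
      exact ⟨w, hw⟩
  choose s hs0 hsadj hsimg using hgens
  obtain ⟨i₀, hi₀⟩ : ∃ i : t, genericPoint X ∈ Uf i.1.1 i.1.2 := by
    obtain ⟨z, hz⟩ := Set.mem_iUnion.1 (ht hξV)
    obtain ⟨hzt, hz⟩ := Set.mem_iUnion.1 hz
    exact ⟨⟨z, hzt⟩, hz⟩
  have hgen : ∀ G : Subfield X.functionField, (∀ a, algebraMap Γ(Y, V) X.functionField a ∈ G) →
      (↑(s i₀) : Set X.functionField) ⊆ G → ∀ z, z ∈ G := fun G hA hsG z => by
    have := hne i₀
    let U := Uf i₀.1.1 i₀.1.2
    haveI := functionField_isFractionRing_of_isAffineOpen X U (hUf i₀.1.1 i₀.1.2)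
    obtain ⟨a, b, -, rfl⟩ := IsFractionRing.div_surjective (A := Γ(X, U)) z
    have key : ∀ w ∈ Algebra.adjoin Γ(Y, V) (s i₀ : Set X.functionField), w ∈ G := fun w hw => by
      induction hw using Algebra.adjoin_induction with
      | mem w hw => exact hsG hw
      | algebraMap r => exact hA r
      | add p q _ _ hp hq => exact add_mem hp hq
      | mul p q _ _ hp hq => exact mul_mem hp hq
    have hmem : ∀ c : Γ(X, U), algebraMap Γ(X, U) X.functionField c ∈ G := fun c =>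
      key _ (hsadj i₀ c)
    exact div_mem (hmem a) (hmem b)
  -- claim at `y`
  have hbad : ∀ c : ∀ i : t, s i, ¬ badIdeal (A := Γ(Y, V)) (fun i : t => ((c i : X.functionField))⁻¹) ≤
      (hV.primeIdealOf ⟨y, hy⟩).asIdeal := fun c hle => by
    obtain ⟨R, hR, hRA, hRp, hRnp, hRg⟩ := exists_dvr_of_badIdeal_le
      (fun i : t => ((c i : X.functionField))⁻¹) (i₀ := i₀) (inv_ne_zero (hs0 _ _ (c i₀).2)) (s i₀) hgen
      (hV.primeIdealOf ⟨y, hy⟩).asIdeal hle
    let _ := (Y.presheaf.germ V y hy).hom.toAlgebra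
    have := hV.isLocalization_stalk ⟨y, hy⟩
    have hfrac : ∀ r, ∃ (a : Γ(Y, V)) (d : Γ(Y, V)), d ∉ (hV.primeIdealOf ⟨y, hy⟩).asIdeal ∧
        (Y.presheaf.stalkSpecializes hξ ≫ f.stalkMap (genericPoint X)).hom r * baseToFun f hξV d =
          baseToFun f hξV a ∧ Y.presheaf.germ V y hy a = r * Y.presheaf.germ V y hy d := fun r => by
      obtain ⟨⟨a, d⟩, h⟩ := IsLocalization.surj (hV.primeIdealOf ⟨y, hy⟩).asIdeal.primeCompl r
      refine ⟨a, d, d.2, ?_, h.symm⟩
      rw [baseToFun_eq f hξV hy hξ, baseToFun_eq f hξV hy hξ, ← map_mul]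
      exact congrArg _ h
    have hval : ∀ r, ∃ a, R.valuation ((Y.presheaf.stalkSpecializes hξ ≫ f.stalkMap (genericPoint X)).hom r) =
        R.valuation (baseToFun f hξV a) ∧
        (r ∈ maximalIdeal (Y.presheaf.stalk y) → a ∈ (hV.primeIdealOf ⟨y, hy⟩).asIdeal) := fun r => by
      obtain ⟨a, d, hd, h, h'⟩ := hfrac r
      refine ⟨a, ?_, fun hr => ?_⟩
      · rw [← h, map_mul, show R.valuation (baseToFun f hξV d) = 1 from hRnp d hd, mul_one]
      · rw [← IsLocalization.AtPrime.to_map_mem_maximal_iff (Y.presheaf.stalk y) (hV.primeIdealOf ⟨y, hy⟩).asIdeal]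
        show Y.presheaf.germ V y hy a ∈ _
        rw [h']
        exact Ideal.mul_mem_right _ _ hr
    obtain ⟨x, hxy, hx⟩ := H R hR
      (fun r => by
        obtain ⟨a, ha, -⟩ := hval r
        rw [← R.valuation_le_one_iff, ha, R.valuation_le_one_iff]
        exact hRA a)
      (fun r hr => by
        obtain ⟨a, ha, ha'⟩ := hval r
        rw [ha]
        exact hRp a (ha' hr))
    obtain ⟨z, hz⟩ := Set.mem_iUnion.1 (ht (show x ∈ f ⁻¹ᵁ V by show f x ∈ V; rw [hxy]; exact hy))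
    obtain ⟨hzt, hxU⟩ := Set.mem_iUnion.1 hz
    let i : t := ⟨z, hzt⟩
    obtain ⟨b, hb⟩ := hsimg i _ (c i).2
    have := hne i
    have h1 : ((c i : X.functionField)) ∈ R := by
      rw [← hb, ← Scheme.algebraMap_germ_eq_germToFunctionField (x := x) (hx := hxU)]
      exact hx _
    have h2 := hRg i
    rw [map_inv₀] at h2
    have h3 := (R.valuation_le_one_iff _).2 h1
    exact (one_le_inv₀ (zero_lt_iff.2 (by rw [Ne, map_eq_zero]; exact hs0 _ _ (c i).2))).2 h3 |>.not_gt h2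
  choose h hh hhy using fun c => Set.not_subset.1 (hbad c)
  let H0 : Γ(Y, V) := ∏ c, h c
  have hmem : ∀ (z : Y) (hz : z ∈ V), z ∈ Y.basicOpen H0 ↔ H0 ∉ (hV.primeIdealOf ⟨z, hz⟩).asIdeal :=
    fun z hz => by
      let _ := (Y.presheaf.germ V z hz).hom.toAlgebra
      have := hV.isLocalization_stalk ⟨z, hz⟩
      rw [Scheme.mem_basicOpen Y H0 z hz,
        ← IsLocalization.AtPrime.to_map_mem_maximal_iff (Y.presheaf.stalk z) (hV.primeIdealOf ⟨z, hz⟩).asIdeal,
        IsLocalRing.notMem_maximalIdeal]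
      rfl
  refine ⟨Y.basicOpen H0, hV.basicOpen H0, ?_, ?_, ?_⟩
  · rw [hmem y hy]
    intro hin
    obtain ⟨c, -, hc⟩ := ((hV.primeIdealOf ⟨y, hy⟩).isPrime.prod_mem_iff).1 hin
    exact hhy c hc
  · refine hξ.mem_open (Y.basicOpen H0).isOpen ?_
    rw [SetLike.mem_coe, hmem y hy]
    intro hin
    obtain ⟨c, -, hc⟩ := ((hV.primeIdealOf ⟨y, hy⟩).isPrime.prod_mem_iff).1 hin
    exact hhy c hc
  · intro R y' hy'W hη hR1 hR2
    have hy' : y' ∈ V := Y.basicOpen_le H0 hy'W
    have hp : ∀ a, R.valuation (baseToFun f hξV a) < 1 ↔ a ∈ (hV.primeIdealOf ⟨y', hy'⟩).asIdeal := fun a => by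
      let _ := (Y.presheaf.germ V y' hy').hom.toAlgebra
      have := hV.isLocalization_stalk ⟨y', hy'⟩
      rw [baseToFun_eq f hξV hy' hη, ← IsLocalization.AtPrime.to_map_mem_maximal_iff (Y.presheaf.stalk y')
        (hV.primeIdealOf ⟨y', hy'⟩).asIdeal]
      refine ⟨fun h => ?_, hR2 _⟩
      by_contra hn
      obtain ⟨u, hu⟩ := IsLocalRing.notMem_maximalIdeal.1 hn
      have hm : R.valuation ((Y.presheaf.stalkSpecializes hη ≫ f.stalkMap (genericPoint X)).hom (u : Y.presheaf.stalk y')) *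
          R.valuation ((Y.presheaf.stalkSpecializes hη ≫ f.stalkMap (genericPoint X)).hom ((u⁻¹ : _ˣ) : Y.presheaf.stalk y')) = 1 := by
        rw [← map_mul, ← map_mul, Units.mul_inv, map_one, map_one]
      rw [hu] at hm
      exact (mul_lt_one_of_lt_of_le h ((R.valuation_le_one_iff _).2 (hR1 _))).ne hm
    have hRA : ∀ a, algebraMap Γ(Y, V) X.functionField a ∈ R := fun a => by
      show baseToFun f hξV a ∈ R
      rw [baseToFun_eq f hξV hy' hη]
      exact hR1 _
    by_cases hall : ∃ i : t, ∀ z ∈ s i, z ∈ R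
    · obtain ⟨i, hi⟩ := hall
      have := hne i
      exact exists_centre_of_mem f hV hξV hy' (hUf i.1.1 i.1.2) (hUle i.1.1 i.1.2) R
        (fun b => mem_of_adjoin R hRA hi (hsadj i b)) hp
    · exfalso
      simp only [not_exists, not_forall] at hall
      choose c hc hcR using hall
      let c' : ∀ i : t, s i := fun i => ⟨c i, hc i⟩
      have h1 := valuation_lt_one_of_mem_badIdeal (fun i : t => ((c' i : X.functionField))⁻¹) R hRA
        (fun i => (valuation_inv_lt_one_of_notMem R (hcR i)).2) (hh c')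
      rw [show algebraMap Γ(Y, V) X.functionField (h c') = baseToFun f hξV (h c') from rfl, hp] at h1
      exact (hmem y' hy').1 hy'W ((hV.primeIdealOf ⟨y', hy'⟩).isPrime.prod_mem_iff.2
        ⟨c', Finset.mem_univ _, h1⟩)

/-- Transport of centres to an open subscheme. -/
theorem isProper_morphismRestrict_of_centres {W : Y.Opens} (hW : IsAffineOpen W)
    (hξW : f (genericPoint X) ∈ W)
    (H : ∀ (R : ValuationSubring X.functionField) (y' : Y) (_ : y' ∈ W) (hη : f (genericPoint X) ⤳ y'),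
      (∀ r, (Y.presheaf.stalkSpecializes hη ≫ f.stalkMap (genericPoint X)).hom r ∈ R) →
      (∀ r ∈ maximalIdeal (Y.presheaf.stalk y'),
        R.valuation ((Y.presheaf.stalkSpecializes hη ≫ f.stalkMap (genericPoint X)).hom r) < 1) →
      ∃ x : X, f x = y' ∧ ∀ a : X.presheaf.stalk x, algebraMap (X.presheaf.stalk x) X.functionField a ∈ R) :
    IsProper (f ∣_ W) := by
  let X' : Scheme.{u} := f ⁻¹ᵁ W
  let ι : X' ⟶ X := (f ⁻¹ᵁ W).ι
  haveI : Nonempty ↥(f ⁻¹ᵁ W) := ⟨⟨genericPoint X, hξW⟩⟩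
  haveI : Nonempty ↥X' := ‹Nonempty ↥(f ⁻¹ᵁ W)›
  haveI : IsIntegral X' := isIntegral_of_isOpenImmersion ι
  have hgen : ι (genericPoint X') = genericPoint X := genericPoint_eq_of_isOpenImmersion ι
  haveI : IsAffine W.toScheme := hW
  haveI : X'.IsSeparated := ⟨by
    rw [show terminal.from X' = (f ∣_ W) ≫ terminal.from W.toScheme from (terminal.comp_from _).symm]
    infer_instance⟩
  let ε : X.functionField ⟶ X'.functionField :=
    X.presheaf.stalkSpecializes (specializes_of_eq hgen) ≫ ι.stalkMap (genericPoint X')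
  refine ValExtLib.isProper_of_dominated (X := X') (f ∣_ W) fun R' _ φ hφ => ?_
  have hφ' : Spec.map (CommRingCat.ofHom R'.subtype) ≫ φ ≫ W.ι =
      X'.fromSpecStalk (genericPoint X') ≫ ι ≫ f := by
    rw [← Category.assoc, hφ, Category.assoc, morphismRestrict_ι]
  obtain ⟨hη, h1, h2⟩ := ValExtLib.exists_base_dominated_of_spec (X := X') (ι ≫ f) R' (φ ≫ W.ι) hφ'
  let R := R'.comap ε.hom
  have hy'W : (φ ≫ W.ι) (closedPoint R') ∈ W := W.range_ι.le ⟨_, rfl⟩
  have hη' : f (genericPoint X) ⤳ (φ ≫ W.ι) (closedPoint R') := by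
    rw [← hgen]; exact hη
  have key : ∀ r, ε.hom ((Y.presheaf.stalkSpecializes hη' ≫ f.stalkMap (genericPoint X)).hom r) =
      (Y.presheaf.stalkSpecializes hη ≫ (ι ≫ f).stalkMap (genericPoint X')).hom r := by
    intro r
    show ((Y.presheaf.stalkSpecializes hη' ≫ f.stalkMap (genericPoint X)) ≫ ε).hom r = _
    congr 2
    rw [Scheme.Hom.stalkMap_comp]
    simp only [ε, Category.assoc]
    rw [← Scheme.Hom.stalkSpecializes_stalkMap_assoc f _ _ (specializes_of_eq hgen),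
      TopCat.Presheaf.stalkSpecializes_comp_assoc]
  obtain ⟨x, hxy, hx⟩ := H R _ hy'W hη'
    (fun r => by show ε.hom _ ∈ R'; rw [key]; exact h1 r)
    (fun r hr => by
      by_contra hn
      have h3 := h2 r hr
      rw [← key] at h3
      have h4 : R.valuation ((Y.presheaf.stalkSpecializes hη' ≫ f.stalkMap (genericPoint X)).hom r) = 1 :=
        le_antisymm ((R.valuation_le_one_iff _).2 (by show ε.hom _ ∈ R'; rw [key]; exact h1 r)) (not_lt.1 hn)
      obtain ⟨u, hu⟩ := (R.valuation_eq_one_iff ⟨_, (R.valuation_le_one_iff _).1 h4.le⟩).2 h4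
      have h5 : R'.valuation (ε.hom ((u : R) : X.functionField)) *
          R'.valuation (ε.hom (((u⁻¹ : Rˣ) : R) : X.functionField)) = 1 := by
        rw [← map_mul, ← map_mul, show ((u : R) : X.functionField) * (((u⁻¹ : Rˣ) : R) : X.functionField) = 1 from
          congrArg Subtype.val u.mul_inv, map_one, map_one]
      rw [hu] at h5
      exact (mul_lt_one_of_lt_of_le h3 ((R'.valuation_le_one_iff _).2 ((u⁻¹ : Rˣ) : R).2)).ne h5)
  have hxW : x ∈ f ⁻¹ᵁ W := by show f x ∈ W; rw [hxy]; exact hy'W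
  refine ⟨(⟨x, hxW⟩ : f ⁻¹ᵁ W), fun a => ?_⟩
  obtain ⟨a, rfl⟩ := (ConcreteCategory.bijective_of_isIso (ι.stalkMap (⟨x, hxW⟩ : f ⁻¹ᵁ W))).surjective a
  have h3 : algebraMap (X'.presheaf.stalk (⟨x, hxW⟩ : f ⁻¹ᵁ W)) X'.functionField
      (ι.stalkMap (⟨x, hxW⟩ : f ⁻¹ᵁ W) a) =
      ε.hom (algebraMap (X.presheaf.stalk x) X.functionField a) := by
    show (X'.presheaf.stalkSpecializes _).hom ((ι.stalkMap (⟨x, hxW⟩ : f ⁻¹ᵁ W)).hom a) =
      ε.hom ((X.presheaf.stalkSpecializes (genericPoint_specializes x)).hom a)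
    rw [← CommRingCat.comp_apply, ← Scheme.Hom.stalkSpecializes_stalkMap ι _ _ (genericPoint_specializes _),
      ← CommRingCat.comp_apply]
    congr 2
    simp only [ε]
    rw [TopCat.Presheaf.stalkSpecializes_comp_assoc]
  rw [h3]
  exact hx a

end Groth.Agent.EGA43.ProperDvr
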