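import Groth.Agent.EGA43.ProperDvr.FlatDvr
import Groth.Agent.Stk19b.DvrImmersion

/-!
# Geometric connectedness of all fibres from that of the maximal ones (EGA IV 15.7.10)
-/

set_option autoImplicit false
set_option backward.isDefEq.respectTransparency false
set_option linter.style.haveILetI false

universe u

open CategoryTheory CategoryTheory.Limits AlgebraicGeometry TopologicalSpace Opposite IsLocalRing

namespace Groth.Agent.EGA43.ProperDvr

open Groth.Agent

theorem geometricallyConnected_fibre_of_flat {X S : Scheme.{u}} [IsLocallyNoetherian S] (f : X ⟶ S) [Flat f]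
    [IsSeparated f] [LocallyOfFiniteType f] [QuasiCompact f]
    (hgen : ∀ η : S, (∀ η' : S, η' ⤳ η → η' = η) → GeometricallyConnected (f.fiberToSpecResidueField η))
    (s : S) [Nonempty ↥(f.fiber s)] (hs : IsProper (f.fiberToSpecResidueField s)) :
    GeometricallyConnected (f.fiberToSpecResidueField s) := by
  obtain ⟨η, hηmax, hηs⟩ := H8Lim.exists_isMaxPt_specializes s
  haveI := hgen η hηmax
  by_cases hne : η = s
  · subst hne; assumption
  obtain ⟨A, _, _, _, ψ, hψs, hψη⟩ := Stk19b.exists_dvr_of_specializes hηs hne
  have hψgen : ψ (genericPoint (Spec (CommRingCat.of A))) = η := by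
    rw [← hψη (closedPoint (FractionRing A)), ← specMap_frac_apply A (FractionRing A) (closedPoint (FractionRing A))]
    rfl
  let q := pullback.snd f ψ
  have hη : ∀ (L : Type u) [Field L] (k : Spec (CommRingCat.of L) ⟶ Spec (CommRingCat.of A)),
      (∀ t, k t = genericPoint (Spec (CommRingCat.of A))) → ConnectedSpace ↥(pullback q k) := by
    intro L _ k hk
    haveI := connectedSpace_pullback_of_geomConnected f η (k ≫ ψ) ((congrArg ψ (hk _)).trans hψgen)
    let e := (IsPullback.of_hasPullback q k).paste_horiz (IsPullback.of_hasPullback f ψ)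
    exact e.isoPullback.inv.homeomorph.surjective.connectedSpace e.isoPullback.inv.continuous
  have hsA : IsProper (q.fiberToSpecResidueField (closedPoint A)) := by
    refine MorphismProperty.of_isPullback (P := @IsProper)
      (isPullback_fiberToSpecResidueField_of_isPullback (IsPullback.of_hasPullback f ψ) _) ?_
    rw [hψs]
    exact hs
  have hne' : ∃ x, q x = closedPoint A := by
    obtain ⟨t⟩ := ‹Nonempty ↥(f.fiber s)›
    obtain ⟨w, -, hw⟩ := Scheme.Pullback.exists_preimage_pullback (f := f) (g := ψ) (f.fiberι s t) (closedPoint A)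
      (((f.range_fiberι s).le ⟨t, rfl⟩).trans hψs.symm)
    exact ⟨w, hw⟩
  have hconn := (isProper_and_connected_of_flat_dvr q hη hsA hne').2
  refine ⟨fun L _ b Z fst snd sq => ?_⟩
  let k₀ : Spec (CommRingCat.of L) ⟶ S := b ≫ S.fromSpecResidueField s
  let j : Spec (CommRingCat.of (ResidueField A)) ⟶ S := Spec.map (CommRingCat.ofHom (residue A)) ≫ ψ
  have hk₀ : k₀ (closedPoint L) = s := Scheme.fromSpecResidueField_apply s (b (closedPoint L))
  have hj : j (closedPoint (ResidueField A)) = s := by
    show ψ (Spec.map (CommRingCat.ofHom (residue A)) (closedPoint _)) = s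
    rw [← hψs]
    congr 1
    exact IsLocalRing.comap_closedPoint (residue A)
  obtain ⟨z, -, -⟩ := Scheme.Pullback.exists_preimage_pullback (f := k₀) (g := j) _ _ (hk₀.trans hj.symm)
  let e := (pullback k₀ j).fromSpecResidueField z
  obtain ⟨ι', hι'⟩ := Spec.map_surjective (e ≫ pullback.snd k₀ j)
  let kE := (e ≫ pullback.fst k₀ j) ≫ k₀
  have hkE : Spec.map (CommRingCat.ofHom (ι'.hom.comp (residue A))) ≫ ψ = kE := by
    simp only [kE, CommRingCat.ofHom_comp, Spec.map_comp, Category.assoc, pullback.condition]
    rw [← Category.assoc e, ← hι']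
    rfl
  haveI : ConnectedSpace ↥(pullback f kE) := by
    rw [← hkE]
    haveI := hconn ((pullback k₀ j).residueField z) ι'.hom
    let p := (IsPullback.of_hasPullback q (Spec.map (CommRingCat.ofHom (ι'.hom.comp (residue A))))).paste_horiz
      (IsPullback.of_hasPullback f ψ)
    exact p.isoPullback.hom.homeomorph.surjective.connectedSpace p.isoPullback.hom.continuous
  let l := e ≫ pullback.fst k₀ j
  haveI : Surjective l := ⟨fun t => ⟨closedPoint _, Subsingleton.elim (α := PrimeSpectrum L) _ _⟩⟩
  let P := sq.paste_horiz (IsPullback.of_hasPullback f (S.fromSpecResidueField s))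
  let m : pullback f kE ⟶ Z := P.lift (pullback.fst f kE) (pullback.snd f kE ≫ l)
    (pullback.condition.trans (Category.assoc (pullback.snd f kE) l k₀).symm)
  have hm : IsPullback m (pullback.snd f kE) snd l := by
    refine IsPullback.of_right ?_ (P.lift_snd _ _ _) P
    rw [P.lift_fst]
    exact IsPullback.of_hasPullback f kE
  haveI : Surjective m := MorphismProperty.of_isPullback (P := @Surjective) hm.flip inferInstance
  exact connectedSpace_of_surjective m

end Groth.Agent.EGA43.ProperDvr
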